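import Cfsg.Agent.ChevalleyStructure.Grading
import Cfsg.Agent.ChevalleyStructure.BruhatSplit
import Cfsg.Agent.ChevalleyStructure.TwistedU
import Cfsg.Agent.ChevalleyStructure.Good
import Cfsg.Agent.ChevStructure.FieldMap
import Cfsg.Agent.ChevalleyStructure.TwistedFix
import Cfsg.Agent.ChevalleyStructure.TwistedBN
import Cfsg.Agent.ChevalleyStructure.HMatDiagAll
import Cfsg.Agent.H92.ChevCent
set_option linter.all false

-- part: H82/Level
section
/-!
The height filtration of the unipotent subgroup `U` of a simply laced Chevalley group, by matrix entries.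

`Lv K D m` is the subgroup of the `g` in `U` with `g - 1` graded in degrees `≥ m`; `cf r g` is the coordinate of `g`
at the root `r`, read off one entry of `g`.
-/

set_option autoImplicit false

namespace Cfsg.Agent.H82.Level

open Cfsg.Lie Cfsg.Agent.ChevalleyStructure Cfsg.Agent.ChevalleyStructure.Elts
open Cfsg.Agent.ChevalleyStructure.TwistedU
open scoped commutatorElement

universe u

/-! ### Tables -/

/-- the height of a root (of its coroot) -/
def ht (D : ChevalleyDatum) (r : ℕ) : ℤ := (D.coroot.getD r #[]).toList.sum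

/-- the weight of a coordinate -/
def wt (D : ChevalleyDatum) : D.Idx → ℤ
  | Sum.inl _ => 0
  | Sum.inr s => ht D s.val

/-- a simple index `i` with `A_{p_i, r} = ±1` -/
def ii (D : ChevalleyDatum) (r : ℕ) : ℕ :=
  ((List.range D.rank).find? fun i => D.cartan i r = 1 || D.cartan i r = -1).getD 0

/-- the index of `r + s` (out of range if not a root) -/
def add (D : ChevalleyDatum) (r s : ℕ) : ℕ := ((D.commTerms r s).map Prod.fst).headD D.nroots

/-- the structure constant of the commutator formula -/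
def kap (D : ChevalleyDatum) (r s : ℕ) : ℤ := ((D.commTerms r s).map fun c => c.2.1).headD 0

/-- the combinatorial facts used -/
structure SL (D : ChevalleyDatum) : Prop where
  gr : ∀ r < D.nroots, Grading.gradeCheck D (ht D) r = true
  pos : ∀ r < D.nroots, D.IsPosRoot r → 1 ≤ ht D r
  ii_ok : ∀ r < D.nroots, ii D r < D.rank ∧ (D.cartan (ii D r) r = 1 ∨ D.cartan (ii D r) r = -1)
  comm : ∀ r < D.nroots, ∀ s < D.nroots, s ≠ r → s ≠ D.neg r →
    (D.commTerms r s = [] ∧ add D r s = D.nroots) ∨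
    (D.commTerms r s = [(add D r s, kap D r s, 1, 1)] ∧ add D r s < D.nroots ∧
      (kap D r s = 1 ∨ kap D r s = -1) ∧ ht D (add D r s) = ht D r + ht D s)
  simple : ∀ i < D.rank, ht D (D.simple i) = 1
  comm_self : ∀ r < D.nroots, add D r r = D.nroots
  comm_neg : ∀ r < D.nroots, add D r (D.neg r) = D.nroots
  add_comm : ∀ r < D.nroots, ∀ s < D.nroots, add D r s = add D s r
  add_neg : ∀ r < D.nroots, ∀ s < D.nroots, add D r s < D.nroots → add D (add D r s) (D.neg r) = s

/-! ### Graded matrices -/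

section Gr

variable {D : ChevalleyDatum} {K : Type u} [Field K]

/-- `A` is supported in degrees `≥ m`. -/
def Gr (m : ℤ) (A : Matrix D.Idx D.Idx K) : Prop := ∀ k l, wt D k - wt D l < m → A k l = 0

theorem Gr.mono {m n : ℤ} {A : Matrix D.Idx D.Idx K} (h : Gr m A) (hnm : n ≤ m) : Gr n A :=
  fun k l hkl => h k l (by omega)

theorem Gr.add {m : ℤ} {A B : Matrix D.Idx D.Idx K} (hA : Gr m A) (hB : Gr m B) : Gr m (A + B) :=
  fun k l h => by rw [Matrix.add_apply, hA k l h, hB k l h, add_zero]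

theorem Gr.neg {m : ℤ} {A : Matrix D.Idx D.Idx K} (hA : Gr m A) : Gr m (-A) :=
  fun k l h => by rw [Matrix.neg_apply, hA k l h, neg_zero]

theorem Gr.sub {m : ℤ} {A B : Matrix D.Idx D.Idx K} (hA : Gr m A) (hB : Gr m B) : Gr m (A - B) :=
  fun k l h => by rw [Matrix.sub_apply, hA k l h, hB k l h, sub_zero]

theorem Gr.mul {m n : ℤ} {A B : Matrix D.Idx D.Idx K} (hA : Gr m A) (hB : Gr n B) : Gr (m + n) (A * B) := by
  intro k l h
  rw [Matrix.mul_apply]
  refine Finset.sum_eq_zero fun j _ => ?_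
  by_cases h1 : wt D k - wt D j < m
  · rw [hA k j h1, zero_mul]
  · rw [hB j l (by omega), mul_zero]

theorem Gr.zero_one : Gr 0 (1 : Matrix D.Idx D.Idx K) := by
  intro k l h
  rw [Matrix.one_apply_ne]
  rintro rfl
  omega

theorem gr_zero (m : ℤ) : Gr m (0 : Matrix D.Idx D.Idx K) := fun _ _ _ => rfl

theorem one_le_of_mem_chainCoeff {r s u : ℕ} {km : ℕ × ℤ} (h : km ∈ D.chainCoeff r s u) : 1 ≤ km.1 := by
  unfold ChevalleyDatum.chainCoeff at h
  rw [List.mem_flatMap] at h
  obtain ⟨e, _, h⟩ := h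
  rw [List.mem_map] at h
  obtain ⟨q, _, rfl⟩ := h
  exact Nat.succ_pos _

theorem gr_xMat (h : SL D) (r : Fin D.nroots) (hr : 1 ≤ ht D r.val) (t : K) : Gr (ht D r.val) (D.xMat K r t - 1) := by
  have hg := h.gr r.val r.2
  have hneg : ht D (D.negIdx.getD r.val 0) = - ht D r.val := by
    unfold Grading.gradeCheck at hg
    rw [Bool.and_eq_true] at hg
    exact of_decide_eq_true hg.1
  rintro (i | u) (j | s) hk
  · rw [Matrix.sub_apply, Columns.xMat_inl_inl, Matrix.one_apply]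
    by_cases hij : i = j
    · subst hij; simp
    · simp [hij]
  · rw [Matrix.sub_apply, Columns.xMat_inl_inr, Matrix.one_apply_ne (by simp), sub_zero]
    by_cases hs : s = r
    · rw [if_pos hs]
    · rw [if_neg hs, if_neg]
      intro h1
      have h2 : (0 : ℤ) - ht D s.val < ht D r.val := hk
      rw [h1, hneg] at h2
      omega
  · rw [Matrix.sub_apply, Columns.xMat_inr_inl, Matrix.one_apply_ne (by simp), sub_zero, if_neg]
    rintro rfl
    have h2 : ht D u.val - 0 < ht D u.val := hk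
    omega
  · have h2 : ht D u.val - ht D s.val < ht D r.val := hk
    rw [Matrix.sub_apply]
    show (if s = r then (if u = r then (1 : K) else 0) else if s.val = D.negIdx.getD r.val 0 then
      (if u = s then (1 : K) else if u = r then -(t ^ 2) else 0) else (if u = s then (1 : K) else 0) +
             ((D.chainCoeff r.val s.val u.val).map fun km => ((km.2 : ℤ) : K) * t ^ km.1).sum) -
        (1 : Matrix D.Idx D.Idx K) (Sum.inr u) (Sum.inr s) = 0
    have h1 : (1 : Matrix D.Idx D.Idx K) (Sum.inr u) (Sum.inr s) = if u = s then 1 else 0 := by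
      rw [Matrix.one_apply]
      by_cases hus : u = s
      · simp [hus]
      · simp [hus]
    rw [h1]
    by_cases hs : s = r
    · rw [if_pos hs, hs, sub_self]
    · rw [if_neg hs]
      by_cases hn : s.val = D.negIdx.getD r.val 0
      · rw [if_pos hn]
        by_cases hus : u = s
        · rw [if_pos hus, if_pos hus, sub_self]
        · rw [if_neg hus, if_neg hus, sub_zero, if_neg]
          rintro rfl
          rw [hn, hneg] at h2
          omega
      · rw [if_neg hn, add_sub_cancel_left]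
        have : D.chainCoeff r.val s.val u.val = [] := by
          rw [List.eq_nil_iff_forall_not_mem]
          intro km hkm
          have h3 := Grading.chainCoeff_grade D (ht D) r.val hg s.val u.val km hkm
          have h4 := one_le_of_mem_chainCoeff hkm
          rw [h3] at h2
          have h5 : (1 : ℤ) ≤ (km.1 : ℤ) := by exact_mod_cast h4
          nlinarith
        rw [this]
        rfl

end Gr

/-! ### Levels -/

section Lv

variable {D : ChevalleyDatum} {K : Type u} [Field K]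

theorem gr_xG (hD : InList D) (h : SL D) {r : ℕ} (hr : D.IsPosRoot r) (t : K) :
    Gr (ht D r) ((xG hD r t : GL D.Idx K).val - 1) := by
  have := gr_xMat h ⟨r, hr.1⟩ (h.pos r hr.1 hr) t
  rwa [← x_of_lt hr.1] at this

theorem wordG_inv (hD : InList D) (w : List (ℕ × K)) :
    (wordG hD w)⁻¹ = wordG hD (w.map fun p => (p.1, -p.2)).reverse := by
  induction w with
  | nil => simp [wordG_nil]
  | cons p w ih =>
    rw [wordG_cons, mul_inv_rev, ih, List.map_cons, List.reverse_cons, wordG_append, wordG_cons, wordG_nil,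
      mul_one, xG_inv]

theorem gr_val (hD : InList D) (h : SL D) {g : GL D.Idx K} (hg : g ∈ D.posUnipotent K) : Gr 1 (g.val - 1) := by
  have key : ∀ a b : Matrix D.Idx D.Idx K, Gr 1 (a - 1) → Gr 1 (b - 1) → Gr 1 (a * b - 1) := by
    intro a b ha hb
    have e : a * b - 1 = (a - 1) * (b - 1) + ((a - 1) + (b - 1)) := by noncomm_ring
    rw [e]
    exact ((ha.mul hb).mono (by norm_num)).add (ha.add hb)
  have key2 : ∀ w : List (ℕ × K), (∀ p ∈ w, D.IsPosRoot p.1) → Gr 1 ((wordG hD w : GL D.Idx K).val - 1) := by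
    intro w
    induction w with
    | nil => intro _; rw [wordG_nil]; simpa using gr_zero (D := D) (K := K) 1
    | cons p w ih =>
      intro hw
      rw [wordG_cons, Units.val_mul]
      exact key _ _ ((gr_xG hD h (hw p List.mem_cons_self) p.2).mono (h.pos _ (hw p List.mem_cons_self).1
        (hw p List.mem_cons_self))) (ih fun q hq => hw q (List.mem_cons_of_mem _ hq))
  have hex : ∃ w : List (ℕ × K), (∀ p ∈ w, D.IsPosRoot p.1) ∧ g = wordG hD w := by
    refine Subgroup.closure_induction (p := fun g _ => ∃ w : List (ℕ × K), (∀ p ∈ w, D.IsPosRoot p.1) ∧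
      g = wordG hD w) ?_ ?_ ?_ ?_ hg
    · rintro g ⟨r, t, hr, hg⟩
      refine ⟨[(r, t)], by simpa using hr, ?_⟩
      rw [wordG_cons, wordG_nil, mul_one]
      exact Units.ext hg
    · exact ⟨[], by simp, rfl⟩
    · rintro _ _ _ _ ⟨w, hw, rfl⟩ ⟨w', hw', rfl⟩
      refine ⟨w ++ w', fun p hp => ?_, (wordG_append hD w w').symm⟩
      rcases List.mem_append.1 hp with hp | hp
      · exact hw p hp
      · exact hw' p hp
    · rintro _ _ ⟨w, hw, rfl⟩
      refine ⟨(w.map fun p => (p.1, -p.2)).reverse, fun p hp => ?_, ?_⟩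
      · obtain ⟨q, hq, rfl⟩ := List.mem_map.1 (List.mem_reverse.1 hp)
        exact hw q hq
      · exact wordG_inv hD w
  obtain ⟨w, hw, rfl⟩ := hex
  exact key2 w hw

theorem gr_val0 (hD : InList D) (h : SL D) {g : GL D.Idx K} (hg : g ∈ D.posUnipotent K) : Gr 0 g.val := by
  have e : g.val = (g.val - 1) + 1 := by abel
  rw [e]
  exact ((gr_val hD h hg).mono (by norm_num)).add Gr.zero_one

/-- The elements of `U` with `g - 1` in degrees `≥ m`. -/
def Lv (K : Type u) [Field K] (hD : InList D) (h : SL D) (m : ℤ) : Subgroup (GL D.Idx K) where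
  carrier := {g | g ∈ D.posUnipotent K ∧ Gr m (g.val - 1)}
  one_mem' := ⟨one_mem _, by simpa using gr_zero (D := D) (K := K) m⟩
  mul_mem' := by
    rintro a b ⟨ha, ha'⟩ ⟨hb, hb'⟩
    refine ⟨mul_mem ha hb, ?_⟩
    have e : (a * b : GL D.Idx K).val - 1 = (a.val - 1) * b.val + (b.val - 1) := by
      rw [Units.val_mul]; noncomm_ring
    rw [e]
    exact ((ha'.mul (gr_val0 hD h hb)).mono (by omega)).add hb'
  inv_mem' := by
    rintro a ⟨ha, ha'⟩
    refine ⟨inv_mem ha, ?_⟩
    have e : (a⁻¹ : GL D.Idx K).val - 1 = -((a⁻¹ : GL D.Idx K).val * (a.val - 1)) := by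
      rw [mul_sub, ← Units.val_mul, inv_mul_cancel, Units.val_one, mul_one, neg_sub]
    rw [e]
    exact (((gr_val0 hD h (inv_mem ha)).mul ha').mono (by omega)).neg

variable (hD : InList D) (h : SL D)

theorem mem_Lv {m : ℤ} {g : GL D.Idx K} : g ∈ Lv K hD h m ↔ g ∈ D.posUnipotent K ∧ Gr m (g.val - 1) := Iff.rfl

theorem Lv_le (m : ℤ) : Lv K hD h m ≤ D.posUnipotent K := fun _ hg => hg.1

theorem Lv_anti {m n : ℤ} (hmn : m ≤ n) : Lv K hD h n ≤ Lv K hD h m := fun _ hg => ⟨hg.1, hg.2.mono hmn⟩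

theorem Lv_one : Lv K hD h 1 = D.posUnipotent K :=
  le_antisymm (Lv_le hD h 1) fun _ hg => ⟨hg, gr_val hD h hg⟩

theorem xG_mem_Lv {r : ℕ} (hr : D.IsPosRoot r) (t : K) : xG hD r t ∈ Lv K hD h (ht D r) :=
  ⟨xG_mem_posUnipotent hD hr t, gr_xG hD h hr t⟩

theorem conj_mem_Lv {m : ℤ} {g v : GL D.Idx K} (hg : g ∈ Lv K hD h m) (hv : v ∈ D.posUnipotent K) :
    v * g * v⁻¹ ∈ Lv K hD h m := by
  refine ⟨mul_mem (mul_mem hv hg.1) (inv_mem hv), ?_⟩
  have e : (v * g * v⁻¹ : GL D.Idx K).val - 1 = v.val * (g.val - 1) * (v⁻¹ : GL D.Idx K).val := by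
    rw [mul_sub, sub_mul, mul_one, ← Units.val_mul, ← Units.val_mul, ← Units.val_mul, mul_inv_cancel, Units.val_one]
  rw [e]
  exact (((gr_val0 hD h hv).mul hg.2).mul (gr_val0 hD h (inv_mem hv))).mono (by omega)

theorem comm_val (a b : GL D.Idx K) :
    (⁅a, b⁆ : GL D.Idx K).val - 1 =
      ((a.val - 1) * (b.val - 1) - (b.val - 1) * (a.val - 1)) * (a⁻¹ * b⁻¹ : GL D.Idx K).val := by
  have e1 : (a.val - 1) * (b.val - 1) - (b.val - 1) * (a.val - 1) = (a * b : GL D.Idx K).val - (b * a : GL D.Idx K).val := by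
    rw [Units.val_mul, Units.val_mul]
    noncomm_ring
  rw [e1, sub_mul, ← Units.val_mul, ← Units.val_mul]
  have e2 : b * a * (a⁻¹ * b⁻¹) = 1 := by group
  have e3 : a * b * (a⁻¹ * b⁻¹) = ⁅a, b⁆ := by rw [commutatorElement_def]; group
  rw [e2, e3, Units.val_one]

theorem comm_mem_Lv {m n : ℤ} {a b : GL D.Idx K} (ha : a ∈ Lv K hD h m) (hb : b ∈ Lv K hD h n) :
    ⁅a, b⁆ ∈ Lv K hD h (m + n) := by
  refine ⟨?_, ?_⟩
  · rw [commutatorElement_def]
    exact mul_mem (mul_mem (mul_mem ha.1 hb.1) (inv_mem ha.1)) (inv_mem hb.1)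
  · rw [comm_val]
    have h1 : Gr (m + n) ((a.val - 1) * (b.val - 1) - (b.val - 1) * (a.val - 1)) :=
      (ha.2.mul hb.2).sub ((hb.2.mul ha.2).mono (by omega))
    exact (h1.mul (gr_val0 hD h (mul_mem (inv_mem ha.1) (inv_mem hb.1)))).mono (by omega)

/-! ### Coordinates -/

/-- an entry with natural number indices -/
noncomputable def ent (A : Matrix D.Idx D.Idx K) (r i : ℕ) : K :=
  if h : r < D.nroots ∧ i < D.rank then A (Sum.inr ⟨r, h.1⟩) (Sum.inl ⟨i, h.2⟩) else 0

/-- the linear form giving the coordinate at `r` -/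
noncomputable def lin (r : ℕ) (A : Matrix D.Idx D.Idx K) : K := -((D.cartan (ii D r) r : ℤ) : K) * ent A r (ii D r)

/-- the coordinate at `r` -/
noncomputable def cf (r : ℕ) (g : GL D.Idx K) : K := lin r g.val

theorem lin_add (r : ℕ) (A B : Matrix D.Idx D.Idx K) : lin r (A + B) = lin r A + lin r B := by
  unfold lin ent
  split_ifs
  · rw [Matrix.add_apply]; ring
  · ring

theorem lin_sub (r : ℕ) (A B : Matrix D.Idx D.Idx K) : lin r (A - B) = lin r A - lin r B := by
  unfold lin ent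
  split_ifs
  · rw [Matrix.sub_apply]; ring
  · ring

theorem lin_one (r : ℕ) : lin r (1 : Matrix D.Idx D.Idx K) = 0 := by
  unfold lin ent
  split_ifs
  · rw [Matrix.one_apply_ne (by simp), mul_zero]
  · ring

theorem lin_gr {r : ℕ} {m : ℤ} {A : Matrix D.Idx D.Idx K} (hA : Gr m A) (hr : ht D r < m) : lin r A = 0 := by
  unfold lin ent
  split_ifs with h1
  · rw [hA _ _ (by show ht D r - 0 < m; omega), mul_zero]
  · ring

theorem cf_eq (r : ℕ) (g : GL D.Idx K) : cf r g = lin r (g.val - 1) := by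
  unfold cf
  rw [lin_sub, lin_one, sub_zero]

theorem cf_one (r : ℕ) : cf r (1 : GL D.Idx K) = 0 := lin_one r

include h in
theorem cf_xG {r s : ℕ} (hr : r < D.nroots) (hs : s < D.nroots) (t : K) :
    cf r (xG hD s t) = if r = s then t else 0 := by
  obtain ⟨h1, h2⟩ := h.ii_ok r hr
  unfold cf lin ent
  rw [dif_pos ⟨hr, h1⟩, coe_xG, x_of_lt hs, Columns.xMat_inr_inl]
  by_cases hrs : r = s
  · subst hrs
    rw [if_pos rfl, if_pos rfl]
    have e : ((Columns.car D (ii D r) r : ℤ) : K) = ((D.cartan (ii D r) r : ℤ) : K) := rfl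
    rw [e]
    rcases h2 with h2 | h2 <;> rw [h2] <;> push_cast <;> ring
  · rw [if_neg hrs, if_neg (fun e => hrs (congrArg Fin.val e)), mul_zero]

theorem cf_Lv {r : ℕ} {m : ℤ} {g : GL D.Idx K} (hg : g ∈ Lv K hD h m) (hr : ht D r < m) : cf r g = 0 := by
  rw [cf_eq]
  exact lin_gr hg.2 hr

theorem cf_mul {r : ℕ} {m n : ℤ} {a b : GL D.Idx K} (ha : a ∈ Lv K hD h m) (hb : b ∈ Lv K hD h n)
    (hr : ht D r < m + n) : cf r (a * b) = cf r a + cf r b := by
  rw [cf_eq, cf_eq, cf_eq]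
  have e : (a * b : GL D.Idx K).val - 1 = (a.val - 1) * (b.val - 1) + ((a.val - 1) + (b.val - 1)) := by
    rw [Units.val_mul]; noncomm_ring
  rw [e, lin_add, lin_add, lin_gr (ha.2.mul hb.2) hr, zero_add]

/-- additivity, left factor at level `≥ ht r` -/
theorem cf_mul_left {r : ℕ} {a b : GL D.Idx K} (ha : a ∈ Lv K hD h (ht D r)) (hb : b ∈ D.posUnipotent K) :
    cf r (a * b) = cf r a + cf r b :=
  cf_mul hD h ha (by rw [Lv_one]; exact hb) (by omega)

theorem cf_mul_right {r : ℕ} {a b : GL D.Idx K} (ha : a ∈ D.posUnipotent K) (hb : b ∈ Lv K hD h (ht D r)) :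
    cf r (a * b) = cf r a + cf r b :=
  cf_mul hD h (m := 1) (by rw [Lv_one]; exact ha) hb (by omega)

theorem cf_inv {r : ℕ} {a : GL D.Idx K} (ha : a ∈ Lv K hD h (ht D r)) : cf r a⁻¹ = - cf r a := by
  have h1 := cf_mul_left hD h (r := r) ha (inv_mem (Lv_le hD h _ ha))
  rw [mul_inv_cancel, cf_one] at h1
  linear_combination -h1

theorem cf_conj {r : ℕ} {a v : GL D.Idx K} (ha : a ∈ Lv K hD h (ht D r)) (hv : v ∈ D.posUnipotent K) :
    cf r (v * a * v⁻¹) = cf r a := by
  have h1 := cf_mul_left hD h (r := r) (conj_mem_Lv hD h ha hv) hv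
  rw [inv_mul_cancel_right, cf_mul_right hD h hv ha] at h1
  linear_combination -h1

theorem cf_comm {r : ℕ} {m n : ℤ} {a b : GL D.Idx K} (ha : a ∈ Lv K hD h m) (hb : b ∈ Lv K hD h n)
    (hr : ht D r = m + n) :
    cf r ⁅a, b⁆ = lin r ((a.val - 1) * (b.val - 1) - (b.val - 1) * (a.val - 1)) := by
  rw [cf_eq, comm_val]
  have h1 : Gr (m + n) ((a.val - 1) * (b.val - 1) - (b.val - 1) * (a.val - 1)) :=
    (ha.2.mul hb.2).sub ((hb.2.mul ha.2).mono (by omega))
  have h2 : Gr 1 ((a⁻¹ * b⁻¹ : GL D.Idx K).val - 1) := gr_val hD h (mul_mem (inv_mem ha.1) (inv_mem hb.1))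
  generalize (a.val - 1) * (b.val - 1) - (b.val - 1) * (a.val - 1) = C at h1 ⊢
  have e : C * (a⁻¹ * b⁻¹ : GL D.Idx K).val = C * ((a⁻¹ * b⁻¹ : GL D.Idx K).val - 1) + C := by
    rw [mul_sub, mul_one, sub_add_cancel]
  rw [e, lin_add, lin_gr (h1.mul h2) (by omega), zero_add]

theorem cf_comm_mul_right {r : ℕ} {m n : ℤ} {a b b' : GL D.Idx K} (ha : a ∈ Lv K hD h m) (hb : b ∈ Lv K hD h n)
    (hb' : b' ∈ Lv K hD h n) (hn : 1 ≤ n) (hr : ht D r = m + n) : cf r ⁅a, b * b'⁆ = cf r ⁅a, b⁆ + cf r ⁅a, b'⁆ := by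
  rw [cf_comm hD h ha (mul_mem hb hb') hr, cf_comm hD h ha hb hr, cf_comm hD h ha hb' hr, Units.val_mul, ← lin_add]
  have e : (a.val - 1) * (b.val * b'.val - 1) - (b.val * b'.val - 1) * (a.val - 1) =
      ((a.val - 1) * ((b.val - 1) * (b'.val - 1)) - (b.val - 1) * (b'.val - 1) * (a.val - 1)) +
      (((a.val - 1) * (b.val - 1) - (b.val - 1) * (a.val - 1)) +
        ((a.val - 1) * (b'.val - 1) - (b'.val - 1) * (a.val - 1))) := by noncomm_ring
  rw [e, lin_add, lin_gr (m := m + (n + n)) _ (by omega), zero_add]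
  exact (ha.2.mul (hb.2.mul hb'.2)).sub (((hb.2.mul hb'.2).mul ha.2).mono (by omega))

theorem cf_comm_mul_left {r : ℕ} {m n : ℤ} {a a' b : GL D.Idx K} (ha : a ∈ Lv K hD h m) (ha' : a' ∈ Lv K hD h m)
    (hb : b ∈ Lv K hD h n) (hm : 1 ≤ m) (hr : ht D r = m + n) : cf r ⁅a * a', b⁆ = cf r ⁅a, b⁆ + cf r ⁅a', b⁆ := by
  rw [cf_comm hD h (mul_mem ha ha') hb hr, cf_comm hD h ha hb hr, cf_comm hD h ha' hb hr, Units.val_mul, ← lin_add]
  have e : (a.val * a'.val - 1) * (b.val - 1) - (b.val - 1) * (a.val * a'.val - 1) =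
      ((a.val - 1) * (a'.val - 1) * (b.val - 1) - (b.val - 1) * ((a.val - 1) * (a'.val - 1))) +
      (((a.val - 1) * (b.val - 1) - (b.val - 1) * (a.val - 1)) +
        ((a'.val - 1) * (b.val - 1) - (b.val - 1) * (a'.val - 1))) := by noncomm_ring
  rw [e, lin_add, lin_gr (m := m + m + n) _ (by omega), zero_add]
  exact ((ha.2.mul ha'.2).mul hb.2).sub ((hb.2.mul (ha.2.mul ha'.2)).mono (by omega))

/-! ### Root elements -/

include h in
theorem ht_neg {r : ℕ} (hr : r < D.nroots) : ht D (D.neg r) = - ht D r := by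
  have hg := h.gr r hr
  unfold Grading.gradeCheck at hg
  rw [Bool.and_eq_true] at hg
  exact of_decide_eq_true hg.1

include hD h in
theorem pos_iff_ht {r : ℕ} (hr : r < D.nroots) : D.IsPosRoot r ↔ 0 < ht D r := by
  have G := RootComb.good_of_mem hD
  constructor
  · intro h1
    have := h.pos r hr h1
    omega
  · intro h1
    rcases RootWord.pos_or_neg G hr with h2 | h2
    · exact h2
    · have h3 := h.pos _ (RootWord.neg_lt G hr) ((RootWord.isPosRoot_neg G hr).2 h2)
      rw [ht_neg h hr] at h3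
      omega

include h in
/-- the commutator formula -/
theorem comm_X {r s : ℕ} (hr : r < D.nroots) (hs : s < D.nroots) (hrs : s ≠ r) (hneg : s ≠ D.neg r) (t u : K) :
    ⁅(xG hD r t : GL D.Idx K), xG hD s u⁆ =
      xG hD s u * xG hD (add D r s) ((kap D r s : K) * (t * u)) * (xG hD s u)⁻¹ := by
  have h1 : xG hD s u * xG hD r (-t) = xG hD r (-t) * xG hD s u * wordG hD (D.commWord K r s (-t) u) := by
    apply Units.ext
    rw [Units.val_mul, Units.val_mul, Units.val_mul, coe_wordG]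
    exact Cfsg.Agent.S1025.result D hD r s hr hs hrs hneg (-t) u
  have h2 : wordG hD (D.commWord K r s (-t) u) = xG hD (add D r s) ((kap D r s : K) * (t * u)) := by
    unfold ChevalleyDatum.commWord
    rcases h.comm r hr s hs hrs hneg with ⟨h3, h4⟩ | ⟨h3, -, -, -⟩
    · rw [h4, h3, xG_of_not_lt hD (by omega)]
      rfl
    · rw [h3, List.map_cons, List.map_nil, wordG_cons, wordG_nil, mul_one]
      congr 1
      rw [pow_one, pow_one, neg_neg, mul_assoc]
  rw [h2] at h1
  have h3 : (xG hD r (-t) : GL D.Idx K) = (xG hD r t)⁻¹ := (xG_inv hD r t).symm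
  rw [h3] at h1
  rw [commutatorElement_def, mul_assoc (xG hD r t), h1]
  group

include h in
theorem cf_comm_X {r s γ : ℕ} (hr : D.IsPosRoot r) (hs : D.IsPosRoot s) (hγ : γ < D.nroots)
    (hht : ht D γ = ht D r + ht D s) (t u : K) :
    cf γ ⁅(xG hD r t : GL D.Idx K), xG hD s u⁆ = if add D r s = γ then (kap D r s : K) * (t * u) else 0 := by
  by_cases hrs : s = r
  · subst hrs
    rw [if_neg (by rw [h.comm_self s hs.1]; omega), commutatorElement_def, xG_add, xG_inv, xG_inv, xG_add, xG_add]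
    have e : t + u + -t + -u = 0 := by ring
    rw [e, xG_zero, cf_one]
  have G := RootComb.good_of_mem hD
  have hneg : s ≠ D.neg r := by
    rintro rfl
    exact RootWord.not_pos_of_neg G ((RootWord.isNegRoot_neg G hr.1).2 hr) hs
  rw [comm_X hD h hr.1 hs.1 hrs hneg]
  rcases h.comm r hr.1 s hs.1 hrs hneg with ⟨-, h4⟩ | ⟨-, h4, -, h5⟩
  · rw [h4, xG_of_not_lt hD (lt_irrefl D.nroots), mul_one, mul_inv_cancel, cf_one, if_neg (by omega)]
  · have hp : D.IsPosRoot (add D r s) := by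
      rw [pos_iff_ht hD h h4, h5]
      have := (pos_iff_ht hD h hr.1).1 hr
      have := (pos_iff_ht hD h hs.1).1 hs
      omega
    have h6 := xG_mem_Lv (K := K) hD h hp ((kap D r s : K) * (t * u))
    rw [cf_conj hD h (by rw [hht, ← h5]; exact h6) (xG_mem_posUnipotent hD hs u), cf_xG hD h hγ h4]
    by_cases he : add D r s = γ
    · rw [if_pos he, if_pos he.symm]
    · rw [if_neg he, if_neg (Ne.symm he)]

/-! ### Ordered products -/

theorem lprod_mem_Lv {k : ℤ} {l : List ℕ} {f : ℕ → K} (hl : ∀ s ∈ l, xG hD s (f s) ∈ Lv K hD h k) :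
    lprod (xG hD) l f ∈ Lv K hD h k := lprod_mem _ hl

theorem cf_lprod {k : ℤ} {r : ℕ} (hr : ht D r = k) {l : List ℕ} {f : ℕ → K}
    (hl : ∀ s ∈ l, xG hD s (f s) ∈ Lv K hD h k) :
    cf r (lprod (xG hD) l f) = (l.map fun s => cf r (xG hD s (f s) : GL D.Idx K)).sum := by
  induction l with
  | nil => rw [lprod_nil, cf_one]; rfl
  | cons a l ih =>
    have h1 := ih fun s hs => hl s (List.mem_cons_of_mem _ hs)
    rw [lprod_cons, cf_mul_left hD h (by rw [hr]; exact hl a List.mem_cons_self)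
      (lprod_mem _ fun s hs => (hl s (List.mem_cons_of_mem _ hs)).1), h1, List.map_cons, List.sum_cons]

/-- a list of the positive roots giving the ordered products -/
structure Ord (K : Type u) [Field K] (hD : InList D) (L : List ℕ) : Prop where
  nodup : L.Nodup
  mem : ∀ r, r ∈ L ↔ D.IsPosRoot r
  ex : ∀ g ∈ D.posUnipotent K, ∃ f : ℕ → K, g = lprod (xG hD) L f

variable {L : List ℕ} (O : Ord K hD L)

theorem sum_map_ite {l : List ℕ} (hl : l.Nodup) {r : ℕ} (hr : r ∈ l) (f : ℕ → K) :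
    (l.map fun s => if r = s then f s else 0).sum = f r := by
  rw [← List.sum_toFinset _ hl, Finset.sum_ite_eq, if_pos (List.mem_toFinset.2 hr)]

include O in
theorem cf_lprod_L {k : ℤ} {r : ℕ} (hr : ht D r = k) (hp : D.IsPosRoot r) {f : ℕ → K}
    (hl : ∀ s ∈ L, xG hD s (f s) ∈ Lv K hD h k) : cf r (lprod (xG hD) L f) = f r := by
  rw [cf_lprod hD h hr hl]
  have e : (L.map fun s => cf r (xG hD s (f s) : GL D.Idx K)) = L.map fun s => if r = s then f s else 0 := by
    refine List.map_congr_left fun s hs => ?_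
    exact cf_xG hD h hp.1 ((O.mem s).1 hs).1 _
  rw [e, sum_map_ite O.nodup ((O.mem r).2 hp)]

include O in
/-- An element of `Lv m` without coordinates at height `m` lies in `Lv (m+1)`. -/
theorem mem_Lv_succ {m : ℤ} {g : GL D.Idx K} (hg : g ∈ Lv K hD h m)
    (hc : ∀ r, D.IsPosRoot r → ht D r = m → cf r g = 0) : g ∈ Lv K hD h (m + 1) := by
  obtain ⟨f, rfl⟩ := O.ex g hg.1
  have key : ∀ n : ℕ, (n : ℤ) ≤ m + 1 → ∀ s ∈ L, xG hD s (f s) ∈ Lv K hD h n := by
    intro n
    induction n with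
    | zero =>
      intro _ s hs
      exact Lv_anti hD h (by have := h.pos s ((O.mem s).1 hs).1 ((O.mem s).1 hs); push_cast; omega)
        (xG_mem_Lv hD h ((O.mem s).1 hs) (f s))
    | succ n ih =>
      intro hn s hs
      push_cast at hn ⊢
      have ih' := ih (by omega)
      have hp := (O.mem s).1 hs
      by_cases hsn : ht D s = n
      · have h1 := cf_lprod_L hD h O hsn hp ih'
        have h2 : cf s (lprod (xG hD) L f : GL D.Idx K) = 0 := by
          by_cases hnm : (n : ℤ) = m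
          · exact hc s hp (by omega)
          · exact cf_Lv hD h hg (by omega)
        rw [h2] at h1
        rw [← h1, xG_zero]
        exact one_mem _
      · by_cases hlt : ht D s < n
        · have h1 := cf_Lv hD h (ih' s hs) hlt
          rw [cf_xG hD h hp.1 hp.1, if_pos rfl] at h1
          rw [h1, xG_zero]
          exact one_mem _
        · exact Lv_anti hD h (by omega) (xG_mem_Lv hD h hp (f s))
  by_cases hm : 0 ≤ m + 1
  · obtain ⟨n, hn⟩ := Int.eq_ofNat_of_zero_le hm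
    rw [hn]
    exact lprod_mem_Lv hD h (key n (by omega))
  · exact Lv_anti hD h (by omega) (by rw [Lv_one]; exact hg.1 : _ ∈ Lv K hD h 1)

/-- the leading part of `g` at level `m` -/
noncomputable def lead (L : List ℕ) (m : ℤ) (g : GL D.Idx K) : GL D.Idx K :=
  lprod (xG hD) L fun s => if ht D s = m then cf s g else 0

include O in
theorem lead_factor_mem (m : ℤ) (g : GL D.Idx K) : ∀ s ∈ L,
    xG hD s (if ht D s = m then cf s g else 0) ∈ Lv K hD h m := by
  intro s hs
  by_cases e : ht D s = m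
  · rw [if_pos e, ← e]
    exact xG_mem_Lv hD h ((O.mem s).1 hs) _
  · rw [if_neg e, xG_zero]
    exact one_mem _

include O in
theorem lead_mem (m : ℤ) (g : GL D.Idx K) : lead hD L m g ∈ Lv K hD h m :=
  lprod_mem_Lv hD h (lead_factor_mem hD h O m g)

include O h in
theorem cf_lead {r : ℕ} (hp : D.IsPosRoot r) (g : GL D.Idx K) : cf r (lead hD L (ht D r) g) = cf r g := by
  have := cf_lprod_L hD h O (r := r) rfl hp (lead_factor_mem hD h O (ht D r) g)
  rw [if_pos rfl] at this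
  exact this

include O in
theorem lead_inv_mul_mem {m : ℤ} {g : GL D.Idx K} (hg : g ∈ Lv K hD h m) :
    (lead hD L m g)⁻¹ * g ∈ Lv K hD h (m + 1) := by
  refine mem_Lv_succ hD h O (mul_mem (inv_mem (lead_mem hD h O m g)) hg) fun r hp hr => ?_
  subst hr
  rw [cf_mul_right hD h (inv_mem (lead_mem hD h O _ g)).1 hg, cf_inv hD h (lead_mem hD h O _ g), cf_lead hD h O hp]
  ring

theorem cf_comm_lprod {r : ℕ} {m n : ℤ} {a : GL D.Idx K} (ha : a ∈ Lv K hD h m) (hn : 1 ≤ n)
    (hr : ht D r = m + n) {l : List ℕ} {f : ℕ → K} (hl : ∀ s ∈ l, xG hD s (f s) ∈ Lv K hD h n) :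
    cf r ⁅a, lprod (xG hD) l f⁆ = (l.map fun s => cf r ⁅a, xG hD s (f s)⁆).sum := by
  induction l with
  | nil => rw [lprod_nil, commutatorElement_one_right, cf_one]; rfl
  | cons b l ih =>
    have h1 := ih fun s hs => hl s (List.mem_cons_of_mem _ hs)
    rw [lprod_cons, cf_comm_mul_right hD h ha (hl b List.mem_cons_self)
      (lprod_mem_Lv hD h fun s hs => hl s (List.mem_cons_of_mem _ hs)) hn hr, h1, List.map_cons, List.sum_cons]

theorem cf_comm_zero_right {r : ℕ} {m n : ℤ} {a b : GL D.Idx K} (ha : a ∈ Lv K hD h m) (hb : b ∈ Lv K hD h n)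
    (hr : ht D r < m + n) : cf r ⁅a, b⁆ = 0 := cf_Lv hD h (comm_mem_Lv hD h ha hb) hr

include O in
/-- the coordinates of a commutator, second factor expanded -/
theorem cf_comm_right {r : ℕ} {m n : ℤ} {a b : GL D.Idx K} (ha : a ∈ Lv K hD h m) (hb : b ∈ Lv K hD h n)
    (hn : 1 ≤ n) (hr : ht D r = m + n) :
    cf r ⁅a, b⁆ = (L.map fun s => cf r ⁅a, xG hD s (if ht D s = n then cf s b else 0)⁆).sum := by
  have e : b = lead hD L n b * ((lead hD L n b)⁻¹ * b) := by group
  have h1 := lead_inv_mul_mem hD h O hb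
  conv_lhs => rw [e]
  rw [cf_comm_mul_right hD h ha (lead_mem hD h O n b) (Lv_anti hD h (by omega) h1) hn hr,
    cf_comm_zero_right hD h ha h1 (by omega), add_zero]
  exact cf_comm_lprod hD h ha hn hr (lead_factor_mem hD h O n b)

include O in
/-- commutator of a root element with an element of `Lv n` -/
theorem cf_comm_X_left {j γ : ℕ} {n : ℤ} {b : GL D.Idx K} (hj : D.IsPosRoot j) (hb : b ∈ Lv K hD h n) (hn : 1 ≤ n)
    (hγ : D.IsPosRoot γ) (hr : ht D γ = ht D j + n) (t : K) :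
    cf γ ⁅(xG hD j t : GL D.Idx K), b⁆ = ∑ s ∈ L.toFinset, if add D j s = γ then (kap D j s : K) * (t * cf s b) else 0 := by
  rw [cf_comm_right hD h O (xG_mem_Lv hD h hj t) hb hn hr, List.sum_toFinset _ O.nodup]
  congr 1
  refine List.map_congr_left fun s hs => ?_
  have hs' := (O.mem s).1 hs
  by_cases e : ht D s = n
  · rw [if_pos e, cf_comm_X hD h hj hs' hγ.1 (by rw [hr, e])]
  · rw [if_neg e, xG_zero, commutatorElement_one_right, cf_one, if_neg]
    intro he
    apply e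
    by_cases hsj : s = j
    · subst hsj
      rw [h.comm_self s hs'.1] at he
      have := hγ.1
      omega
    have G := RootComb.good_of_mem hD
    have hneg : s ≠ D.neg j := by
      rintro rfl
      exact RootWord.not_pos_of_neg G ((RootWord.isNegRoot_neg G hj.1).2 hj) hs'
    rcases h.comm j hj.1 s hs'.1 hsj hneg with ⟨-, h4⟩ | ⟨-, h4, -, h5⟩
    · have := hγ.1
      omega
    · rw [he] at h5
      omega

end Lv

end Cfsg.Agent.H82.Level
end

-- part: H82/TwMax
section
/-!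
Maximality of the subfield subgroup in a twisted group: the unipotent part.
-/

set_option autoImplicit false

namespace Cfsg.Agent.H82.TwMax

open Cfsg.Lie Cfsg.Agent.ChevalleyStructure Cfsg.Agent.ChevalleyStructure.Elts
open Cfsg.Agent.ChevalleyStructure.TwistedU Cfsg.Agent.H82.Level
open scoped commutatorElement

universe u

/-! ### The entrywise field map -/

section Fr

variable {D : ChevalleyDatum} {K : Type u} [Field K]

/-- the entrywise field map -/
noncomputable def fr (D : ChevalleyDatum) (φ : K →+* K) : GL D.Idx K →* GL D.Idx K :=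
  Units.map (RingHom.mapMatrix φ : Matrix D.Idx D.Idx K →+* Matrix D.Idx D.Idx K).toMonoidHom

variable (φ : K →+* K)

theorem fr_val (g : GL D.Idx K) : (fr D φ g).val = g.val.map φ := rfl

theorem fr_eq_iff (g : GL D.Idx K) : fr D φ g = g ↔ ∀ i j, φ (g.val i j) = g.val i j := by
  rw [Units.ext_iff, fr_val]
  constructor
  · intro h i j
    exact congrFun (congrFun h i) j
  · intro h
    ext i j
    exact h i j

theorem fr_X (hD : InList D) (r : ℕ) (t : K) : fr D φ (xG hD r t) = xG hD r (φ t) := by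
  apply Units.ext
  rw [fr_val, coe_xG, coe_xG]
  exact ChevStructure.FieldMap.x_map D φ r t

theorem fr_lprod (hD : InList D) (l : List ℕ) (f : ℕ → K) :
    fr D φ (lprod (xG hD) l f) = lprod (xG hD) l fun s => φ (f s) := by
  unfold lprod
  rw [map_list_prod, List.map_map]
  congr 1
  exact List.map_congr_left fun s _ => fr_X φ hD s (f s)

theorem fr_nG (hD : InList D) (r : ℕ) : fr D φ (nG hD r 1) = nG hD r 1 := by
  rw [nG_def, map_mul, map_mul, fr_X, fr_X, inv_one, map_neg, map_one]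

theorem fr_nG' (hD : InList D) (r : ℕ) (t : K) : fr D φ (nG hD r t) = nG hD r (φ t) := by
  rw [nG_def, nG_def, map_mul, map_mul, fr_X, fr_X, map_neg, map_inv₀]

theorem fr_hG (hD : InList D) (r : ℕ) (t : K) : fr D φ (hG hD r t) = hG hD r (φ t) := by
  rw [hG_def, hG_def, map_mul, fr_nG', fr_nG', map_neg, map_one]

theorem cf_fr (r : ℕ) (g : GL D.Idx K) : cf r (fr D φ g) = φ (cf r g) := by
  unfold cf lin ent
  split_ifs with h
  · rw [map_mul, map_neg, map_intCast]
    rfl
  · simp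

theorem cf_of_fr {r : ℕ} {g : GL D.Idx K} (hg : fr D φ g = g) : φ (cf r g) = cf r g := by
  rw [← cf_fr, hg]

/-- the fixed points of the entrywise field map -/
noncomputable def Fr (D : ChevalleyDatum) (φ : K →+* K) : Subgroup (GL D.Idx K) := TwistedFix.fixS (fr D φ)

theorem mem_Fr {g : GL D.Idx K} : g ∈ Fr D φ ↔ fr D φ g = g := Iff.rfl

end Fr

/-! ### Good lists -/

/-- check of the commutator condition along a list -/
def goodCheck (D : ChevalleyDatum) : List ℕ → Bool
  | [] => true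
  | r :: l => (l.all fun s => decide (s ≠ r) && decide (s ≠ D.neg r) &&
      (decide (add D r s = D.nroots) || l.contains (add D r s))) && goodCheck D l

/-- the combinatorics of the twisting -/
structure TwOK (D : ChevalleyDatum) (Lo : List (List ℕ)) (rho : ℕ → ℕ) : Prop where
  nodup : Lo.flatten.Nodup
  lt : ∀ r ∈ Lo.flatten, r < D.nroots
  mem : ∀ r < D.nroots, (D.IsPosRoot r ↔ r ∈ Lo.flatten)
  good : goodCheck D Lo.flatten = true
  perm : ∀ o ∈ Lo, (o.map rho).Perm o
  comm : ∀ o ∈ Lo, o.Pairwise fun r s => s ≠ r ∧ s ≠ D.neg r ∧ add D r s = D.nroots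
  rho_lt : ∀ r < D.nroots, rho r < D.nroots
  rho_ht : ∀ r < D.nroots, ht D (rho r) = ht D r
  rho_inj : ∀ r < D.nroots, ∀ s < D.nroots, rho r = rho s → r = s

section Good

variable {D : ChevalleyDatum} {K : Type u} [Field K] (hD : InList D) (h : SL D)

include h in
theorem good_of_check : ∀ {l : List ℕ}, (∀ r ∈ l, r < D.nroots) → goodCheck D l = true →
    Good (xG (F := K) hD) l := by
  intro l
  induction l with
  | nil => intro _ _; exact good_nil _
  | cons r l ih =>
    intro hlt hc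
    unfold goodCheck at hc
    rw [Bool.and_eq_true] at hc
    refine (good_cons _).2 ⟨?_, ih (fun s hs => hlt s (List.mem_cons_of_mem _ hs)) hc.2⟩
    intro s hs t u
    have h1 := List.all_eq_true.1 hc.1 s hs
    rw [Bool.and_eq_true, Bool.and_eq_true, decide_eq_true_eq, decide_eq_true_eq, Bool.or_eq_true,
      decide_eq_true_eq] at h1
    rw [comm_X hD h (hlt r List.mem_cons_self) (hlt s (List.mem_cons_of_mem _ hs)) h1.1.1 h1.1.2]
    have hsm : xG hD s u ∈ rspan (xG (F := K) hD) {k | k ∈ l} := mem_rspan _ (S := {k | k ∈ l}) hs u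
    refine mul_mem (mul_mem hsm ?_) (inv_mem hsm)
    rcases h1.2 with h2 | h2
    · rw [h2, xG_of_not_lt hD (lt_irrefl _)]
      exact one_mem _
    · exact mem_rspan _ (S := {k | k ∈ l}) (by simpa using h2) _

variable {Lo : List (List ℕ)} {rho : ℕ → ℕ} (T : TwOK D Lo rho)

include T in
theorem isPosRoot_iff (r : ℕ) : r ∈ Lo.flatten ↔ D.IsPosRoot r :=
  ⟨fun hr => (T.mem r (T.lt r hr)).2 hr, fun hr => (T.mem r hr.1).1 hr⟩

include h T in
theorem ord : Ord K hD Lo.flatten where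
  nodup := T.nodup
  mem := isPosRoot_iff T
  ex := by
    intro g hg
    have h1 : g ∈ rspan (xG (F := K) hD) {k | k ∈ Lo.flatten} := by
      refine (posUnipotent_le_iff hD _).2 (fun r hr t => ?_) hg
      exact mem_rspan _ (S := {k | k ∈ Lo.flatten}) ((isPosRoot_iff T r).2 hr) t
    exact exists_lprod (fun r t u => (xG_add hD r t u).symm) T.nodup (good_of_check hD h T.lt T.good) h1

include h T in
theorem orbit_comm {o : List ℕ} (ho : o ∈ Lo) :
    o.Pairwise fun r s => ∀ t u : K, Commute (xG hD r t : GL D.Idx K) (xG hD s u) := by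
  have hlt : ∀ r ∈ o, r < D.nroots := fun r hr => T.lt r (List.mem_flatten.2 ⟨o, ho, hr⟩)
  refine (T.comm o ho).imp_of_mem ?_
  intro r s hr hs h1 t u
  rw [← commutatorElement_eq_one_iff_commute, comm_X hD h (hlt r hr) (hlt s hs) h1.1 h1.2.1, h1.2.2,
    xG_of_not_lt hD (lt_irrefl _), mul_one, mul_inv_cancel]

end Good

/-! ### The twisted context -/

/-- The twisted group `G` with its twisting map `sg`. -/
structure Tw {D : ChevalleyDatum} {K : Type u} [Field K] (hD : InList D) (h : SL D) (Lo : List (List ℕ))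
    (rho : ℕ → ℕ) (eps : ℕ → ℤ) (φ : K →+* K) (sg : GL D.Idx K →* GL D.Idx K) (G : Subgroup (GL D.Idx K)) :
    Prop where
  T : TwOK D Lo rho
  sg_X : ∀ r, D.IsPosRoot r → ∀ t : K, sg (xG hD r t) = xG hD (rho r) ((eps r : K) * φ t)
  G_fix : ∀ g ∈ G, sg g = g
  U_fix : ∀ g ∈ D.posUnipotent K, sg g = g → g ∈ G

section Tw

variable {D : ChevalleyDatum} {K : Type u} [Field K] {hD : InList D} {h : SL D} {Lo : List (List ℕ)}
  {rho : ℕ → ℕ} {eps : ℕ → ℤ} {φ : K →+* K} {sg : GL D.Idx K →* GL D.Idx K} {G : Subgroup (GL D.Idx K)}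
  (W : Tw hD h Lo rho eps φ sg G)

include W

theorem rho_pos {r : ℕ} (hr : D.IsPosRoot r) : D.IsPosRoot (rho r) := by
  have h1 := W.T.rho_lt r hr.1
  rw [pos_iff_ht hD h h1, W.T.rho_ht r hr.1]
  exact (pos_iff_ht hD h hr.1).1 hr

/-- ordered products with compatible coordinates are fixed -/
theorem sg_lprod {t : ℕ → K} (ht : ∀ r ∈ Lo.flatten, t (rho r) = (eps r : K) * φ (t r)) :
    sg (lprod (xG hD) Lo.flatten t) = lprod (xG hD) Lo.flatten t :=
  TwistedFix.map_lprod (f := fun r v => (eps r : K) * φ v) (fun r hr v => W.sg_X r ((isPosRoot_iff W.T r).1 hr) v) W.T.perm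
    (fun _ ho => orbit_comm hD h W.T ho) ht

/-- factors of a product in `Lv m` -/
theorem factor_mem {m : ℤ} {f : ℕ → K} (hg : lprod (xG hD) Lo.flatten f ∈ Lv K hD h m) :
    ∀ s ∈ Lo.flatten, xG hD s (f s) ∈ Lv K hD h m := by
  have O := ord (K := K) hD h W.T
  have key : ∀ n : ℕ, (n : ℤ) ≤ m → ∀ s ∈ Lo.flatten, xG hD s (f s) ∈ Lv K hD h n := by
    intro n
    induction n with
    | zero =>
      intro _ s hs
      exact Lv_anti hD h (by have := h.pos s ((O.mem s).1 hs).1 ((O.mem s).1 hs); push_cast; omega)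
        (xG_mem_Lv hD h ((O.mem s).1 hs) (f s))
    | succ n ih =>
      intro hn s hs
      push_cast at hn ⊢
      have ih' := ih (by omega)
      have hp := (O.mem s).1 hs
      by_cases hsn : ht D s = n
      · have h1 := cf_lprod_L hD h O hsn hp ih'
        rw [cf_Lv hD h hg (by omega)] at h1
        rw [← h1, xG_zero]
        exact one_mem _
      · by_cases hlt : ht D s < n
        · have h1 := cf_Lv hD h (ih' s hs) hlt
          rw [cf_xG hD h hp.1 hp.1, if_pos rfl] at h1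
          rw [h1, xG_zero]
          exact one_mem _
        · exact Lv_anti hD h (by omega) (xG_mem_Lv hD h hp (f s))
  intro s hs
  have hp := (O.mem s).1 hs
  by_cases hm : 0 ≤ m
  · obtain ⟨n, hn⟩ := Int.eq_ofNat_of_zero_le hm
    rw [hn]
    exact key n (by omega) s hs
  · exact Lv_anti hD h (by have := h.pos s hp.1 hp; omega) (xG_mem_Lv hD h hp (f s))

/-- coordinates of the elements of `G ∩ U` are compatible with the twisting -/
theorem cf_rho {r : ℕ} (hr : D.IsPosRoot r) {g : GL D.Idx K} (hg : g ∈ Lv K hD h (ht D r)) (hf : sg g = g) :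
    cf (rho r) g = (eps r : K) * φ (cf r g) := by
  have O := ord (K := K) hD h W.T
  obtain ⟨f, rfl⟩ := O.ex g hg.1
  have h1 := factor_mem W hg
  have h2 := cf_lprod_L hD h O (r := r) rfl hr h1
  have hX : ∀ s ∈ Lo.flatten, xG hD (rho s) ((eps s : K) * φ (f s)) ∈ Lv K hD h (ht D r) := by
    intro s hs
    have hp := (O.mem s).1 hs
    by_cases hlt : ht D s < ht D r
    · have h3 := cf_Lv hD h (h1 s hs) hlt
      rw [cf_xG hD h hp.1 hp.1, if_pos rfl] at h3
      rw [h3, map_zero, mul_zero, xG_zero]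
      exact one_mem _
    · exact Lv_anti hD h (by rw [W.T.rho_ht s hp.1]; omega) (xG_mem_Lv hD h (rho_pos W hp) _)
  have h3 : ∀ l : List ℕ, (∀ s ∈ l, s ∈ Lo.flatten) →
      sg (lprod (xG hD) l f) ∈ Lv K hD h (ht D r) ∧
      cf (rho r) (sg (lprod (xG hD) l f)) = (l.map fun s => if r = s then (eps s : K) * φ (f s) else 0).sum := by
    intro l
    induction l with
    | nil =>
      intro _
      rw [lprod_nil, map_one, cf_one]
      exact ⟨one_mem _, rfl⟩
    | cons s l ih =>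
      intro hl
      obtain ⟨i1, i2⟩ := ih fun s hs => hl s (List.mem_cons_of_mem _ hs)
      have hs := hl s List.mem_cons_self
      have hp := (O.mem s).1 hs
      rw [lprod_cons, map_mul, W.sg_X s hp]
      refine ⟨mul_mem (hX s hs) i1, ?_⟩
      rw [cf_mul_left hD h (by rw [W.T.rho_ht r hr.1]; exact hX s hs) i1.1, i2, List.map_cons, List.sum_cons,
        cf_xG hD h (rho_pos W hr).1 (rho_pos W hp).1]
      congr 1
      by_cases hrs : r = s
      · rw [if_pos hrs, if_pos (congrArg rho hrs)]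
      · rw [if_neg hrs, if_neg fun e => hrs (W.T.rho_inj r hr.1 s hp.1 e)]
  have h4 := (h3 Lo.flatten fun _ hs => hs).2
  rw [hf] at h4
  rw [h4, h2]
  exact sum_map_ite O.nodup ((O.mem r).2 hr) fun s => (eps s : K) * φ (f s)

theorem lead_mem_G {m : ℤ} {g : GL D.Idx K} (hg : g ∈ Lv K hD h m) (hf : sg g = g) :
    lead hD Lo.flatten m g ∈ G := by
  have O := ord (K := K) hD h W.T
  refine W.U_fix _ (lead_mem hD h O m g).1 (sg_lprod W fun r hr => ?_)
  have hp := (O.mem r).1 hr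
  show (if ht D (rho r) = m then cf (rho r) g else 0) = (eps r : K) * φ (if ht D r = m then cf r g else 0)
  rw [W.T.rho_ht r hp.1]
  by_cases hm : ht D r = m
  · rw [if_pos hm, if_pos hm, cf_rho W hp (by rw [hm]; exact hg) hf]
  · rw [if_neg hm, if_neg hm, map_zero, mul_zero]

theorem lead_mem_Fr {m : ℤ} {g : GL D.Idx K} (hc : ∀ r, D.IsPosRoot r → ht D r = m → φ (cf r g) = cf r g) :
    fr D φ (lead hD Lo.flatten m g) = lead hD Lo.flatten m g := by
  have O := ord (K := K) hD h W.T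
  unfold lead
  rw [fr_lprod]
  refine lprod_congr _ fun s hs => ?_
  by_cases hm : ht D s = m
  · rw [if_pos hm, hc s ((O.mem s).1 hs) hm]
  · rw [if_neg hm, map_zero]

theorem eq_one_of_high {m : ℤ} (hm : ∀ r, D.IsPosRoot r → ht D r < m) {g : GL D.Idx K}
    (hg : g ∈ Lv K hD h m) : g = 1 := by
  have O := ord (K := K) hD h W.T
  obtain ⟨f, rfl⟩ := O.ex g hg.1
  have h1 := factor_mem W hg
  have h2 : ∀ l : List ℕ, (∀ s ∈ l, s ∈ Lo.flatten) → lprod (xG hD) l f = 1 := by
    intro l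
    induction l with
    | nil => intro _; rfl
    | cons s l ih =>
      intro hl
      have hs := hl s List.mem_cons_self
      have hp := (O.mem s).1 hs
      have h3 := cf_Lv hD h (h1 s hs) (hm s hp)
      rw [cf_xG hD h hp.1 hp.1, if_pos rfl] at h3
      rw [lprod_cons, h3, xG_zero, ih fun s hs => hl s (List.mem_cons_of_mem _ hs), mul_one]
  exact h2 _ fun _ hs => hs

/-- Step A, from level `m₀` on. -/
theorem stepA_from {H : Subgroup (GL D.Idx K)} (hMH : ∀ g ∈ G, fr D φ g = g → g ∈ H) (hHG : H ≤ G) (m₀ : ℤ)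
    (hbad : ∀ m, m₀ ≤ m → ∀ u ∈ H, u ∈ Lv K hD h m → ∀ r, D.IsPosRoot r → ht D r = m → φ (cf r u) = cf r u) :
    ∀ u ∈ H, u ∈ Lv K hD h m₀ → fr D φ u = u := by
  have O := ord (K := K) hD h W.T
  obtain ⟨N, hN⟩ : ∃ N : ℕ, ∀ r, D.IsPosRoot r → ht D r < N := by
    obtain ⟨N, hN⟩ : ∃ N : ℕ, ∀ r ∈ Finset.range D.nroots, (ht D r).toNat < N := by
      refine ⟨(Finset.range D.nroots).sup (fun r => (ht D r).toNat) + 1, fun r hr => ?_⟩
      exact Nat.lt_succ_of_le (Finset.le_sup (f := fun r => (ht D r).toNat) hr)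
    refine ⟨N, fun r hr => ?_⟩
    have := hN r (Finset.mem_range.2 hr.1)
    omega
  have key : ∀ n : ℕ, ∀ m : ℤ, m₀ ≤ m → (N : ℤ) ≤ m + n → ∀ u ∈ H, u ∈ Lv K hD h m → fr D φ u = u := by
    intro n
    induction n with
    | zero =>
      intro m _ hm u _ hu
      rw [eq_one_of_high W (fun r hr => lt_of_lt_of_le (hN r hr) (by simpa using hm)) hu, map_one]
    | succ n ih =>
      intro m hm0 hm u huH hu
      have hsg := W.G_fix u (hHG huH)
      have hc := hbad m hm0 u huH hu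
      have h1 := lead_mem_Fr W (g := u) (m := m) hc
      have h2 := hMH _ (lead_mem_G W hu hsg) h1
      have h3 := ih (m + 1) (by omega) (by push_cast at hm; omega) _ (mul_mem (inv_mem h2) huH)
        (lead_inv_mul_mem hD h O hu)
      rw [map_mul, map_inv, h1] at h3
      exact mul_left_cancel h3
  intro u huH hu
  exact key (N + m₀.natAbs) m₀ le_rfl (by omega) u huH hu

/-- Step A: if `H` contains no unipotent element with a bad leading coordinate, `H ∩ U` is fixed entrywise. -/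
theorem stepA {H : Subgroup (GL D.Idx K)} (hMH : ∀ g ∈ G, fr D φ g = g → g ∈ H) (hHG : H ≤ G)
    (hbad : ∀ m, ∀ u ∈ H, u ∈ Lv K hD h m → ∀ r, D.IsPosRoot r → ht D r = m → φ (cf r u) = cf r u) :
    ∀ u ∈ H, u ∈ D.posUnipotent K → fr D φ u = u := fun u huH hu =>
  stepA_from W hMH hHG 1 (fun m _ => hbad m) u huH (by rw [Lv_one]; exact hu)

/-- high levels consisting of fixed roots -/
theorem fr_of_high {m₀ : ℤ} (hfix : ∀ r, D.IsPosRoot r → m₀ ≤ ht D r → rho r = r ∧ eps r = 1) {u : GL D.Idx K}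
    (huG : u ∈ G) (hu : u ∈ Lv K hD h m₀) : fr D φ u = u := by
  refine stepA_from W (H := G) (fun g hg _ => hg) le_rfl m₀ (fun m hm u hu hum r hr hrm => ?_) u huG hu
  obtain ⟨h1, h2⟩ := hfix r hr (by omega)
  have h3 := cf_rho W hr (g := u) (by rw [hrm]; exact hum) (W.G_fix u hu)
  rw [h1, h2, Int.cast_one, one_mul] at h3
  exact h3.symm

/-- the leading part of an element of `H` lies in `H` if the higher levels consist of fixed roots -/
theorem lead_mem_H {H : Subgroup (GL D.Idx K)} (hMH : ∀ g ∈ G, fr D φ g = g → g ∈ H) (hHG : H ≤ G) {m : ℤ}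
    (hfix : ∀ r, D.IsPosRoot r → m + 1 ≤ ht D r → rho r = r ∧ eps r = 1) {u : GL D.Idx K}
    (huH : u ∈ H) (hu : u ∈ Lv K hD h m) : lead hD Lo.flatten m u ∈ H := by
  have O := ord (K := K) hD h W.T
  have h1 := lead_inv_mul_mem hD h O hu
  have h2 := lead_mem_G W hu (W.G_fix u (hHG huH))
  have h3 : (lead hD Lo.flatten m u)⁻¹ * u ∈ G := mul_mem (inv_mem h2) (hHG huH)
  have h4 := hMH _ h3 (fr_of_high W hfix h3 h1)
  have e : lead hD Lo.flatten m u = u * ((lead hD Lo.flatten m u)⁻¹ * u)⁻¹ := by group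
  rw [e]
  exact mul_mem huH (inv_mem h4)

end Tw

end Cfsg.Agent.H82.TwMax
end

-- part: H82/TwMaxB
section
/-!
Maximality of the subfield subgroup in a twisted group: the Borel part and the Bruhat induction.
-/

set_option autoImplicit false

namespace Cfsg.Agent.H82.TwMax

open Cfsg.Lie Cfsg.Agent.ChevalleyStructure Cfsg.Agent.ChevalleyStructure.Elts
open Cfsg.Agent.ChevalleyStructure.TwistedU Cfsg.Agent.H82.Level
open Cfsg.Agent.ChevalleyStructure.RootCombGood (co car)
open Cfsg.Agent.ChevalleyStructure.RootWord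
open Cfsg.Agent.ChevalleyStructure.BruhatSplit (Acts hG_simple_conj)
open scoped commutatorElement

universe u

/-! ### The diagonal subgroup -/

section Diag

variable {D : ChevalleyDatum} {K : Type u} [Field K] (hD : InList D) (h : SL D)

/-- the character values of a diagonal element -/
noncomputable def chi (D : ChevalleyDatum) (t : GL D.Idx K) (s : ℕ) : K :=
  if hs : s < D.nroots then t.val (Sum.inr ⟨s, hs⟩) (Sum.inr ⟨s, hs⟩) else 1

include hD in
theorem diag_val {t : GL D.Idx K} (ht : t ∈ D.diagonalSubgroup K) :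
    t.val = Matrix.diagonal (Sum.elim (fun _ => (1 : K)) fun s => chi D t s.val) := by
  obtain ⟨χ, hχ⟩ := HMatDiagAll.diagonalSubgroup_le_torus hD ht
  rw [hχ]
  congr 1
  funext i
  rcases i with i | s
  · rfl
  · show χ s = chi D t s.val
    unfold chi
    rw [dif_pos s.2, hχ, Matrix.diagonal_apply_eq]
    rfl

include hD in
theorem chi_ne_zero {t : GL D.Idx K} (ht : t ∈ D.diagonalSubgroup K) (s : ℕ) : chi D t s ≠ 0 := by
  by_cases hs : s < D.nroots
  · intro h0
    have h1 : (t.val * (t⁻¹ : GL D.Idx K).val) (Sum.inr ⟨s, hs⟩) (Sum.inr ⟨s, hs⟩) = 1 := by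
      rw [← Units.val_mul, mul_inv_cancel, Units.val_one, Matrix.one_apply_eq]
    rw [diag_val hD ht, Matrix.diagonal_mul] at h1
    simp only [Sum.elim_inr, h0, zero_mul, zero_ne_one] at h1
  · unfold chi
    rw [dif_neg hs]
    exact one_ne_zero

include hD in
/-- `cf_s (t g t⁻¹) = χ_s(t) cf_s g` -/
theorem cf_diag_conj {t : GL D.Idx K} (ht : t ∈ D.diagonalSubgroup K) (s : ℕ) (g : GL D.Idx K) :
    cf s (t * g * t⁻¹) = chi D t s * cf s g := by
  unfold cf lin ent
  split_ifs with h1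
  · have e1 : (t * g * t⁻¹ : GL D.Idx K).val (Sum.inr ⟨s, h1.1⟩) (Sum.inl ⟨ii D s, h1.2⟩) =
        chi D t s * g.val (Sum.inr ⟨s, h1.1⟩) (Sum.inl ⟨ii D s, h1.2⟩) := by
      rw [Units.val_mul, Units.val_mul, diag_val hD ht, diag_val hD (inv_mem ht), Matrix.mul_diagonal,
        Matrix.diagonal_mul]
      simp
    rw [e1]
    ring
  · ring

include hD h in
theorem diag_conj_X {t : GL D.Idx K} (ht : t ∈ D.diagonalSubgroup K) {s : ℕ} (hs : s < D.nroots) (a : K) :
    t * xG hD s a * t⁻¹ = xG hD s (chi D t s * a) := by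
  have h1 := BruhatSplit.acts_of_mem_diagonal hD (RootComb.good_of_mem hD) ht s hs
  rw [wact_nil] at h1
  have h2 : t * xG hD s a * t⁻¹ ∈ D.rootSubgroup K s := by
    rw [← h1, BruhatSplit.mem_map_conj]
    have : t⁻¹ * (t * xG hD s a * t⁻¹) * t = xG hD s a := by group
    rw [this]
    exact xG_mem_rootSubgroup hD s a
  obtain ⟨b, hb⟩ := (mem_rootSubgroup_iff hD s _).1 h2
  have h3 := cf_diag_conj hD ht s (xG hD s a)
  rw [hb, cf_xG hD h hs hs, cf_xG hD h hs hs, if_pos rfl, if_pos rfl] at h3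
  rw [hb, h3]

include hD in
theorem fr_diag (φ : K →+* K) {t : GL D.Idx K} (ht : t ∈ D.diagonalSubgroup K)
    (hc : ∀ s < D.nroots, φ (chi D t s) = chi D t s) : fr D φ t = t := by
  rw [fr_eq_iff]
  intro i j
  rw [diag_val hD ht]
  by_cases hij : i = j
  · subst hij
    rw [Matrix.diagonal_apply_eq]
    rcases i with i | s
    · exact map_one φ
    · exact hc s.val s.2
  · rw [Matrix.diagonal_apply_ne _ hij, map_zero]

theorem prod_zpow_sub {K : Type u} [Field K] (c : ℕ → K) (l : List ℕ) (hl : ∀ k ∈ l, c k ≠ 0) (a b : ℕ → ℤ)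
    (n : ℤ) : (l.map fun k => c k ^ (a k - n * b k)).prod =
      (l.map fun k => c k ^ a k).prod * ((l.map fun k => c k ^ b k).prod) ^ (-n) := by
  induction l with
  | nil => simp
  | cons k l ih =>
    have hk := hl k List.mem_cons_self
    rw [List.map_cons, List.prod_cons, List.map_cons, List.prod_cons, List.map_cons, List.prod_cons,
      ih fun k hk => hl k (List.mem_cons_of_mem _ hk), mul_zpow, zpow_sub₀ hk, ← zpow_mul]
    have e : c k ^ (b k * -n) = (c k ^ (n * b k))⁻¹ := by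
      rw [← zpow_neg]
      congr 1
      ring
    rw [e, div_eq_mul_inv]
    ring

include hD h in
theorem diag_chi {t : GL D.Idx K} (ht : t ∈ D.diagonalSubgroup K) :
    ∃ c : ℕ → K, (∀ i < D.rank, c i ≠ 0) ∧ ∀ s < D.nroots,
      chi D t s = ((List.range D.rank).map fun i => c i ^ D.cartan i s).prod := by
  obtain ⟨c, hc0, e⟩ := Cfsg.Agent.S1034.result D hD t ht
  refine ⟨c, hc0, fun s hs => ?_⟩
  have e' : t = wordG hD ((List.range D.rank).flatMap fun i => D.hWord (D.simple i) (c i)) :=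
    (eq_wordG_iff hD t _).2 e
  have key : ∀ (l : List ℕ), (∀ i ∈ l, i < D.rank ∧ c i ≠ 0) → ∀ a : K,
      wordG hD (l.flatMap fun i => D.hWord (D.simple i) (c i)) * xG hD s a *
      (wordG hD (l.flatMap fun i => D.hWord (D.simple i) (c i)))⁻¹ =
      xG hD s ((l.map fun i => c i ^ D.cartan i s).prod * a) := by
    intro l hl a
    induction l with
    | nil =>
      rw [List.flatMap_nil, wordG_nil]
      simp
    | cons i l ih =>
      rw [List.flatMap_cons, wordG_append, List.map_cons, List.prod_cons]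
      have h1 := ih fun j hj => hl j (List.mem_cons_of_mem _ hj)
      have h2 := hG_simple_conj hD (hl i List.mem_cons_self).1 hs (hl i List.mem_cons_self).2
        ((l.map fun i => c i ^ D.cartan i s).prod * a)
      rw [← h1] at h2
      have e3 : wordG hD (D.hWord (D.simple i) (c i)) = hG hD (D.simple i) (c i) := rfl
      rw [mul_inv_rev, e3, mul_assoc (c i ^ D.cartan i s), ← h2]
      group
  have h1 := key (List.range D.rank) (fun i hi => ⟨List.mem_range.1 hi, hc0 i (List.mem_range.1 hi)⟩) 1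
  rw [← e', diag_conj_X hD h ht hs, mul_one, mul_one] at h1
  exact xG_injective hD hs h1

include hD h in
/-- a diagonal element whose simple character values are fixed is fixed -/
theorem chi_fix (φ : K →+* K) {t : GL D.Idx K} (ht : t ∈ D.diagonalSubgroup K)
    (hs : ∀ i < D.rank, φ (chi D t (D.simple i)) = chi D t (D.simple i)) :
    ∀ s < D.nroots, φ (chi D t s) = chi D t s := by
  have G := RootComb.good_of_mem hD
  obtain ⟨c, hc0, hc⟩ := diag_chi hD h ht
  refine root_induction G hs fun i hi r hr hP => ?_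
  have e : chi D t (D.reflectRoot i r) = chi D t r * (chi D t (D.simple i)) ^ (-(D.cartan i r)) := by
    rw [hc _ (G.reflect_lt hi hr), hc r hr, hc _ (G.simple_lt hi), ← prod_zpow_sub c _
      (fun k hk => hc0 k (List.mem_range.1 hk))]
    congr 1
    refine List.map_congr_left fun k hk => ?_
    rw [G.cartan_reflect hi hr (List.mem_range.1 hk)]
  rw [e, map_mul, map_zpow₀, hP, hs i hi]

end Diag

/-! ### Step B -/

section B

variable {D : ChevalleyDatum} {K : Type u} [Field K] (hD : InList D) (h : SL D)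

include hD h in
theorem diag_conj_pos {t g : GL D.Idx K} (ht : t ∈ D.diagonalSubgroup K) (hg : g ∈ D.posUnipotent K) :
    t * g * t⁻¹ ∈ D.posUnipotent K := by
  have hle : D.posUnipotent K ≤ (D.posUnipotent K).comap (MulAut.conj t).toMonoidHom := by
    refine (posUnipotent_le_iff hD _).2 fun r hr a => ?_
    show t * xG hD r a * t⁻¹ ∈ D.posUnipotent K
    rw [diag_conj_X hD h ht hr.1]
    exact xG_mem_posUnipotent hD hr _
  exact hle hg

include hD h in
/-- Step B: the elements of `H ∩ B` are fixed entrywise. -/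
theorem stepB (φ : K →+* K) {H : Subgroup (GL D.Idx K)} (hA : ∀ u ∈ H, u ∈ D.posUnipotent K → fr D φ u = u)
    (he : ∀ i < D.rank, ∃ e ∈ H, e ∈ D.posUnipotent K ∧ cf (D.simple i) e = 1)
    {v t : GL D.Idx K} (hv : v ∈ D.posUnipotent K) (ht : t ∈ D.diagonalSubgroup K) (hg : v * t ∈ H)
    (htH : fr D φ t = t → t ∈ H) : fr D φ (v * t) = v * t := by
  have h1 : fr D φ t = t := by
    refine fr_diag hD φ ht (chi_fix hD h φ ht fun i hi => ?_)
    obtain ⟨e, heH, heU, hce⟩ := he i hi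
    have h2 : v * t * e * (v * t)⁻¹ = v * (t * e * t⁻¹) * v⁻¹ := by group
    have h3 : t * e * t⁻¹ ∈ D.posUnipotent K := diag_conj_pos hD h ht heU
    have h4 : v * (t * e * t⁻¹) * v⁻¹ ∈ D.posUnipotent K := mul_mem (mul_mem hv h3) (inv_mem hv)
    have h5 := hA _ (h2 ▸ mul_mem (mul_mem hg heH) (inv_mem hg)) h4
    have h6 := cf_of_fr φ (r := D.simple i) h5
    rw [cf_conj hD h (by rw [h.simple i hi, Lv_one]; exact h3) hv, cf_diag_conj hD ht, hce, mul_one] at h6
    exact h6
  have h2 : v ∈ H := by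
    have := mul_mem hg (inv_mem (htH h1))
    rwa [mul_inv_cancel_right] at this
  rw [map_mul, h1, hA v h2 hv]

end B

/-! ### Step C -/

section C

variable {D : ChevalleyDatum} {K : Type u} [Field K] (hD : InList D) (h : SL D) (φ : K →+* K) (rho : ℕ → ℕ)
  (G : Subgroup (GL D.Idx K))

/-- `n ∈ N ∩ G` acts on the roots through the word `w`, which commutes with the symmetry. -/
structure NW (n : GL D.Idx K) (w : List ℕ) : Prop where
  mem_G : n ∈ G
  mem_N : n ∈ D.monomialSubgroup K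
  lt : ∀ a ∈ w, a < D.rank
  acts : Acts n w
  comm : ∀ r < D.nroots, wact D w (rho r) = rho (wact D w r)

variable {rho G}

theorem NW.mul {n n' : GL D.Idx K} {w w' : List ℕ}
    (Gd : RootCombGood.Good D) (a : NW rho G n w) (b : NW rho G n' w') : NW rho G (n * n') (w ++ w') where
  mem_G := mul_mem a.mem_G b.mem_G
  mem_N := mul_mem a.mem_N b.mem_N
  lt := fun i hi => (List.mem_append.1 hi).elim (a.lt i) (b.lt i)
  acts := Acts.mul Gd a.acts b.acts b.lt
  comm := fun r hr' => by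
    rw [wact_append, wact_append, b.comm r hr', a.comm _ (wact_lt Gd b.lt hr')]

theorem NW.inv {n : GL D.Idx K} {w : List ℕ} (hr : ∀ r < D.nroots, rho r < D.nroots)
    (Gd : RootCombGood.Good D) (a : NW rho G n w) : NW rho G n⁻¹ w.reverse where
  mem_G := inv_mem a.mem_G
  mem_N := inv_mem a.mem_N
  lt := fun i hi => a.lt i (List.mem_reverse.1 hi)
  acts := Acts.inv Gd a.acts a.lt
  comm := fun r hr' => by
    have hl : ∀ i ∈ w.reverse, i < D.rank := fun i hi => a.lt i (List.mem_reverse.1 hi)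
    have h1 := wact_lt Gd hl hr'
    have h2 := a.comm _ h1
    rw [wact_reverse' Gd a.lt hr'] at h2
    rw [← h2, wact_reverse Gd a.lt (hr _ h1)]

variable {ι : Type*} (J : ι → List ℕ) (nh : ι → GL D.Idx K)

variable (rho G) in
/-- the classes of simple roots and the corresponding elements of `N ∩ G` -/
structure Cls : Prop where
  rho_lt : ∀ r < D.nroots, rho r < D.nroots
  J_ne : ∀ i, J i ≠ []
  J_orth : ∀ i, (J i).Pairwise fun j j' => D.reflectRoot j (D.simple j') = D.simple j' ∧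
    D.reflectRoot j' (D.simple j) = D.simple j
  nhW : ∀ i, NW rho G (nh i) (J i)
  nh_fr : ∀ i, fr D φ (nh i) = nh i
  split : ∀ i, ∀ u ∈ D.posUnipotent K, u ∈ G →
    (∀ j ∈ J i, φ (cf (D.simple j) u) = cf (D.simple j) u) →
    ∃ v x, x ∈ G ∧ fr D φ x = x ∧ v ∈ G ∧ nh i * v * (nh i)⁻¹ ∈ D.posUnipotent K ∧ u = v * x

theorem inv_append_list (Gd : RootCombGood.Good D) : ∀ (l w : List ℕ), (∀ a ∈ w, a < D.rank) → (∀ a ∈ l, a < D.rank) →
    (l.Pairwise fun j j' => D.reflectRoot j (D.simple j') = D.simple j') →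
    (∀ j ∈ l, D.IsNegRoot (wact D w (D.simple j))) → inv D (w ++ l) + l.length = inv D w
  | [], w, _, _, _, _ => by simp
  | j :: l, w, hw, hl, hp, hn => by
    have hj := hl j List.mem_cons_self
    have h1 := inv_append_of_neg Gd hw hj (hn j List.mem_cons_self)
    have hw' : ∀ a ∈ w ++ [j], a < D.rank := by
      intro a ha
      rcases List.mem_append.1 ha with ha | ha
      · exact hw a ha
      · rw [List.mem_singleton] at ha
        rw [ha]; exact hj
    have h2 := inv_append_list Gd l (w ++ [j]) hw' (fun a ha => hl a (List.mem_cons_of_mem _ ha))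
      (List.pairwise_cons.1 hp).2 (fun a ha => by
        rw [wact_append, wact_cons, wact_nil, (List.pairwise_cons.1 hp).1 a ha]
        exact hn a (List.mem_cons_of_mem _ ha))
    have e : w ++ j :: l = w ++ [j] ++ l := by simp
    rw [e, List.length_cons]
    omega

variable {J nh φ}

include hD in
theorem mem_borel_of_pos {n : GL D.Idx K} {w : List ℕ} (hn : NW rho G n w)
    (hp : ∀ i < D.rank, D.IsPosRoot (wact D w (D.simple i))) : n ∈ D.borelSubgroup K := by
  have Gd := RootComb.good_of_mem hD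
  refine H92.ChevCent.mem_borel_of_conj hD hn.mem_N fun u hu => ?_
  have hle : D.posUnipotent K ≤ (D.borelSubgroup K).comap (MulAut.conj n).toMonoidHom := by
    refine (posUnipotent_le_iff hD _).2 fun r hr a => ?_
    show n * xG hD r a * n⁻¹ ∈ D.borelSubgroup K
    have h1 := hn.acts r hr.1
    have h2 : n * xG hD r a * n⁻¹ ∈ D.rootSubgroup K (wact D w r) := by
      rw [← h1, BruhatSplit.mem_map_conj]
      have : n⁻¹ * (n * xG hD r a * n⁻¹) * n = xG hD r a := by group
      rw [this]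
      exact xG_mem_rootSubgroup hD r a
    obtain ⟨b, hb⟩ := (mem_rootSubgroup_iff hD _ _).1 h2
    rw [hb]
    exact Subgroup.mem_sup_left (xG_mem_posUnipotent hD (wact_pos_of_simple Gd hn.lt hp hr) b)
  exact hle hu

include hD h in
/-- Step C: the Bruhat induction. -/
theorem stepC (C : Cls φ rho G J nh) {H : Subgroup (GL D.Idx K)} (hMH : ∀ g ∈ G, fr D φ g = g → g ∈ H)
    (hHG : H ≤ G) (hB : ∀ g ∈ H, g ∈ D.borelSubgroup K → fr D φ g = g)
    (key : ∀ (w : List ℕ) (b n u : GL D.Idx K), b ∈ D.borelSubgroup K → b ∈ G → NW rho G n w →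
      u ∈ D.posUnipotent K → u ∈ G → b * n * u ∈ H →
      (∀ i < D.rank, D.IsPosRoot (wact D w (D.simple i))) ∨
      ∃ i, (∀ j ∈ J i, D.IsNegRoot (wact D w (D.simple j))) ∧
        ∀ j ∈ J i, φ (cf (D.simple j) u) = cf (D.simple j) u) :
    ∀ (k : ℕ) (w : List ℕ) (b n u : GL D.Idx K), inv D w ≤ k → b ∈ D.borelSubgroup K → b ∈ G → NW rho G n w →
      u ∈ D.posUnipotent K → u ∈ G → b * n * u ∈ H → fr D φ (b * n * u) = b * n * u := by
  have Gd := RootComb.good_of_mem hD
  have hpos : ∀ (w : List ℕ) (b n u : GL D.Idx K), b ∈ D.borelSubgroup K → NW rho G n w →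
      u ∈ D.posUnipotent K → b * n * u ∈ H → (∀ i < D.rank, D.IsPosRoot (wact D w (D.simple i))) →
      fr D φ (b * n * u) = b * n * u := fun w b n u hb hn hu hg hp =>
    hB _ hg (mul_mem (mul_mem hb (mem_borel_of_pos hD hn hp)) (Subgroup.mem_sup_left hu))
  intro k
  induction k with
  | zero =>
    intro w b n u hk hb hbG hn hu huG hg
    refine hpos w b n u hb hn hu hg fun i hi => ?_
    exact (inv_eq_zero_iff Gd hn.lt).1 (Nat.le_zero.1 hk) _ (Gd.simple_pos hi)
  | succ k ih =>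
    intro w b n u hk hb hbG hn hu huG hg
    rcases key w b n u hb hbG hn hu huG hg with hp | ⟨i, hi1, hi2⟩
    · exact hpos w b n u hb hn hu hg hp
    · obtain ⟨v, x, hxG, hxF, hvG, hvU, rfl⟩ := C.split i u hu huG hi2
      have hNi := C.nhW i
      have hw' : inv D (w ++ (J i).reverse) ≤ k := by
        have h1 := inv_append_list Gd (J i).reverse w hn.lt (fun a ha => hNi.lt a (List.mem_reverse.1 ha))
          (by
            rw [List.pairwise_reverse]
            exact (C.J_orth i).imp fun hab => hab.2)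
          (fun j hj => hi1 j (List.mem_reverse.1 hj))
        have h2 : 0 < (J i).reverse.length := by
          rw [List.length_reverse]
          exact List.length_pos_iff.2 (C.J_ne i)
        omega
      have h3 : b * (n * (nh i)⁻¹) * (nh i * v * (nh i)⁻¹) = b * n * (v * x) * x⁻¹ * (nh i)⁻¹ := by group
      have hxH := hMH x hxG hxF
      have hnH := hMH _ hNi.mem_G (C.nh_fr i)
      have h4 : b * (n * (nh i)⁻¹) * (nh i * v * (nh i)⁻¹) ∈ H := by
        rw [h3]
        exact mul_mem (mul_mem hg (inv_mem hxH)) (inv_mem hnH)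
      have h5 := ih (w ++ (J i).reverse) b (n * (nh i)⁻¹) (nh i * v * (nh i)⁻¹) hw' hb hbG
        (hn.mul Gd (hNi.inv C.rho_lt Gd)) hvU
        (mul_mem (mul_mem hNi.mem_G hvG) (inv_mem hNi.mem_G)) h4
      rw [h3, map_mul, map_mul, map_inv, map_inv, hxF, C.nh_fr i] at h5
      exact mul_right_cancel (mul_right_cancel h5)

end C

end Cfsg.Agent.H82.TwMax
end

-- part: H82/TwMaxC
section
/-!
Maximality of the subfield subgroup in a twisted group: coordinates of conjugates.
-/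

set_option autoImplicit false

namespace Cfsg.Agent.H82.TwMax

open Cfsg.Lie Cfsg.Agent.ChevalleyStructure Cfsg.Agent.ChevalleyStructure.Elts
open Cfsg.Agent.ChevalleyStructure.TwistedU Cfsg.Agent.H82.Level
open Cfsg.Agent.ChevalleyStructure.RootCombGood (co car)
open Cfsg.Agent.ChevalleyStructure.RootWord
open Cfsg.Agent.ChevalleyStructure.BruhatSplit (Acts)
open scoped commutatorElement

universe u

section

variable {D : ChevalleyDatum} {K : Type u} [Field K] (hD : InList D) (h : SL D) {L : List ℕ} (O : Ord K hD L)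

include hD h in
theorem pos_of_add {γ j : ℕ} (hγ : D.IsPosRoot γ) (hj : D.IsPosRoot j) (hlt : add D γ j < D.nroots) :
    D.IsPosRoot (add D γ j) ∧ ht D (add D γ j) = ht D γ + ht D j ∧ (kap D γ j = 1 ∨ kap D γ j = -1) := by
  have G := RootComb.good_of_mem hD
  by_cases hs : j = γ
  · subst hs
    rw [h.comm_self j hj.1] at hlt
    omega
  have hneg : j ≠ D.neg γ := by
    rintro rfl
    exact not_pos_of_neg G ((isNegRoot_neg G hγ.1).2 hγ) hj
  rcases h.comm γ hγ.1 j hj.1 hs hneg with ⟨-, h4⟩ | ⟨-, h4, h6, h5⟩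
  · omega
  · refine ⟨?_, h5, h6⟩
    rw [pos_iff_ht hD h h4, h5]
    have := (pos_iff_ht hD h hγ.1).1 hγ
    have := (pos_iff_ht hD h hj.1).1 hj
    omega

include O h in
/-- commutator of an element of `U` with a root element -/
theorem cf_comm_X_right {γ j : ℕ} {b : GL D.Idx K} (hγ : D.IsPosRoot γ) (hj : D.IsPosRoot j) (hj1 : ht D j = 1)
    (hlt : add D γ j < D.nroots) (hb : b ∈ D.posUnipotent K) (t : K) :
    cf (add D γ j) ⁅b, (xG hD γ t : GL D.Idx K)⁆ = -((kap D γ j : K) * (t * cf j b)) := by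
  obtain ⟨hp, hht, -⟩ := pos_of_add hD h hγ hj hlt
  have hb' : b ∈ Lv K hD h 1 := by rw [Lv_one]; exact hb
  have h1 := comm_mem_Lv hD h (xG_mem_Lv (K := K) hD h hγ t) hb'
  rw [← commutatorElement_inv, cf_inv hD h (by rw [hht, hj1]; exact h1),
    cf_comm_X_left hD h O hγ hb' le_rfl hp (by rw [hht, hj1])]
  congr 1
  rw [Finset.sum_eq_single j]
  · rw [if_pos rfl]
  · intro s hs hsj
    rw [if_neg]
    intro he
    apply hsj
    have hs' := (O.mem s).1 (List.mem_toFinset.1 hs)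
    have h2 := h.add_neg γ hγ.1 s hs'.1 (by rw [he]; exact hlt)
    have h3 := h.add_neg γ hγ.1 j hj.1 hlt
    rw [← h2, he, h3]
  · intro hj'
    exact absurd (List.mem_toFinset.2 ((O.mem j).2 hj)) hj'

include O h in
/-- vanishing coordinate of a commutator -/
theorem cf_comm_X_right_zero {γ δ : ℕ} {b : GL D.Idx K} (hγ : D.IsPosRoot γ) (hδ : D.IsPosRoot δ)
    (hht : ht D δ = ht D γ + 1) (hno : ∀ s, D.IsPosRoot s → add D γ s ≠ δ) (hb : b ∈ D.posUnipotent K) (t : K) :
    cf δ ⁅b, (xG hD γ t : GL D.Idx K)⁆ = 0 := by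
  have hb' : b ∈ Lv K hD h 1 := by rw [Lv_one]; exact hb
  have h1 := comm_mem_Lv hD h (xG_mem_Lv (K := K) hD h hγ t) hb'
  rw [← commutatorElement_inv, cf_inv hD h (by rw [hht]; exact h1),
    cf_comm_X_left hD h O hγ hb' le_rfl hδ hht, Finset.sum_eq_zero, neg_zero]
  intro s hs
  rw [if_neg (hno s ((O.mem s).1 (List.mem_toFinset.1 hs)))]

variable (φ : K →+* K)

include O in
/-- The coordinate of `u` at a simple root `j` is fixed if a suitable conjugate is fixed entrywise. -/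
theorem LS {γ j : ℕ} (hγ : D.IsPosRoot γ) (hj : D.IsPosRoot j) (hj1 : ht D j = 1)
    (hlt : add D γ j < D.nroots) {u : GL D.Idx K} (hu : u ∈ D.posUnipotent K) {c : K} (hc : c ≠ 0)
    {y τ : GL D.Idx K} (hy : y ∈ Lv K hD h (ht D γ)) (hτ : τ ∈ Lv K hD h (ht D γ + 2))
    (hy1 : cf γ y = 0) (hy2 : cf (add D γ j) (xG hD γ c * y) = 0) (hy3 : cf (add D γ j) ⁅u⁻¹, y⁆ = 0)
    (hz : fr D φ (u⁻¹ * (xG hD γ c * y) * u * τ) = u⁻¹ * (xG hD γ c * y) * u * τ) :
    φ (cf j u) = cf j u := by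
  obtain ⟨hp, hht, hk⟩ := pos_of_add hD h hγ hj hlt
  rw [hj1] at hht
  have hγ1 := h.pos γ hγ.1 hγ
  have hui : u⁻¹ ∈ Lv K hD h 1 := by rw [Lv_one]; exact inv_mem hu
  have hX := xG_mem_Lv (K := K) hD h hγ c
  have hXy := mul_mem hX hy
  have e : u⁻¹ * (xG hD γ c * y) * u * τ = ⁅u⁻¹, xG hD γ c * y⁆ * (xG hD γ c * y * τ) := by
    rw [commutatorElement_def]; group
  rw [e] at hz
  have hcm := comm_mem_Lv hD h hui hXy
  have hXyτ : xG hD γ c * y * τ ∈ Lv K hD h (ht D γ) := mul_mem hXy (Lv_anti hD h (by omega) hτ)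
  have h1 : cf γ (⁅u⁻¹, xG hD γ c * y⁆ * (xG hD γ c * y * τ)) = c := by
    rw [cf_mul_left hD h (Lv_anti hD h (by omega) hcm) hXyτ.1, cf_Lv hD h hcm (by omega),
      cf_mul_left hD h hXy hτ.1, cf_mul_left hD h hX hy.1, cf_Lv hD h hτ (by omega), hy1,
      cf_xG hD h hγ.1 hγ.1, if_pos rfl]
    ring
  have h2 : cf (add D γ j) (⁅u⁻¹, xG hD γ c * y⁆ * (xG hD γ c * y * τ)) = (kap D γ j : K) * (c * cf j u) := by
    rw [cf_mul_left hD h (by rw [hht, add_comm]; exact hcm) hXyτ.1,
      cf_mul hD h (r := add D γ j) hXy hτ (by rw [hht]; omega), cf_Lv hD h hτ (by rw [hht]; omega), hy2,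
      cf_comm_mul_right hD h hui hX hy hγ1 (by rw [hht, add_comm]), hy3,
      cf_comm_X_right hD h O hγ hj hj1 hlt (inv_mem hu),
      cf_inv hD h (by rw [hj1, Lv_one]; exact hu)]
    ring
  have h3 := cf_of_fr φ (r := γ) hz
  have h4 := cf_of_fr φ (r := add D γ j) hz
  rw [h1] at h3
  rw [h2, map_mul, map_mul, map_intCast, h3] at h4
  have hk' : (kap D γ j : K) ≠ 0 := by
    rcases hk with hk | hk <;> rw [hk] <;> simp
  exact mul_left_cancel₀ hc (mul_left_cancel₀ hk' h4)

/-! ### conjugation by `N` and `B` -/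

include hD in
theorem acts_X {n : GL D.Idx K} {w : List ℕ} (hn : Acts n w) {s : ℕ} (hs : s < D.nroots) (a : K) :
    ∃ a', n * xG hD s a * n⁻¹ = xG hD (wact D w s) a' ∧ (a ≠ 0 → a' ≠ 0) := by
  have h2 : n * xG hD s a * n⁻¹ ∈ D.rootSubgroup K (wact D w s) := by
    rw [← hn s hs, BruhatSplit.mem_map_conj]
    have : n⁻¹ * (n * xG hD s a * n⁻¹) * n = xG hD s a := by group
    rw [this]
    exact xG_mem_rootSubgroup hD s a
  obtain ⟨b, hb⟩ := (mem_rootSubgroup_iff hD _ _).1 h2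
  refine ⟨b, hb, fun ha hb0 => ha ?_⟩
  rw [hb0, xG_zero] at hb
  have h3 : xG hD s a = 1 := by
    have : xG hD s a = n⁻¹ * (n * xG hD s a * n⁻¹) * n := by group
    rw [this, hb]
    group
  exact (xG_eq_one_iff hD hs a).1 h3

include hD in
theorem diag_conj_Lv {m : ℤ} {t g : GL D.Idx K} (ht : t ∈ D.diagonalSubgroup K) (hg : g ∈ Lv K hD h m) :
    t * g * t⁻¹ ∈ Lv K hD h m := by
  refine ⟨diag_conj_pos hD h ht hg.1, ?_⟩
  have e : (t * g * t⁻¹ : GL D.Idx K).val - 1 = t.val * (g.val - 1) * (t⁻¹ : GL D.Idx K).val := by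
    rw [mul_sub, sub_mul, mul_one, ← Units.val_mul, ← Units.val_mul, ← Units.val_mul, mul_inv_cancel, Units.val_one]
  rw [e, diag_val hD ht, diag_val hD (inv_mem ht)]
  intro k l hkl
  rw [Matrix.mul_diagonal, Matrix.diagonal_mul, hg.2 k l hkl]
  ring

include hD in
/-- conjugation by an element of `B` -/
theorem borel_conj {b e : GL D.Idx K} {m : ℤ} (hb : b ∈ D.borelSubgroup K) (he : e ∈ Lv K hD h m) :
    b⁻¹ * e * b ∈ Lv K hD h m ∧ ∀ r, ht D r = m → ∃ x : K, x ≠ 0 ∧ cf r (b⁻¹ * e * b) = x * cf r e := by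
  obtain ⟨v, hv, t, ht, rfl⟩ := Cfsg.Agent.S1100.exists_mul_of_mem_borel hD hb
  have h1 : v⁻¹ * e * v⁻¹⁻¹ ∈ Lv K hD h m := conj_mem_Lv hD h he (inv_mem hv)
  have e1 : (v * t)⁻¹ * e * (v * t) = t⁻¹ * (v⁻¹ * e * v⁻¹⁻¹) * t⁻¹⁻¹ := by group
  rw [e1]
  refine ⟨diag_conj_Lv hD h (inv_mem ht) h1, fun r hr => ⟨chi D t⁻¹ r, chi_ne_zero hD (inv_mem ht) r, ?_⟩⟩
  subst hr
  rw [cf_diag_conj hD (inv_mem ht), cf_conj hD h he (inv_mem hv)]

end

section Tw

variable {D : ChevalleyDatum} {K : Type u} [Field K] {hD : InList D} {h : SL D} {Lo : List (List ℕ)}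
  {rho : ℕ → ℕ} {eps : ℕ → ℤ} {φ : K →+* K} {sg : GL D.Idx K →* GL D.Idx K} {G : Subgroup (GL D.Idx K)}
  (W : Tw hD h Lo rho eps φ sg G)

include W

/-- conjugation by an element of `N` fixing the high roots -/
theorem n_conj_Lv {n : GL D.Idx K} {w : List ℕ} (hn : Acts n w) {m : ℤ}
    (hfix : ∀ s, D.IsPosRoot s → m ≤ ht D s → wact D w s = s) {y : GL D.Idx K} (hy : y ∈ Lv K hD h m) :
    n * y * n⁻¹ ∈ Lv K hD h m := by
  have O := ord (K := K) hD h W.T
  obtain ⟨f, rfl⟩ := O.ex y hy.1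
  have h1 := factor_mem W hy
  have key : ∀ l : List ℕ, (∀ s ∈ l, s ∈ Lo.flatten) → n * lprod (xG hD) l f * n⁻¹ ∈ Lv K hD h m := by
    intro l
    induction l with
    | nil => intro _; rw [lprod_nil, mul_one, mul_inv_cancel]; exact one_mem _
    | cons s l ih =>
      intro hl
      have hs := hl s List.mem_cons_self
      have hp := (O.mem s).1 hs
      have e : n * lprod (xG hD) (s :: l) f * n⁻¹ = (n * xG hD s (f s) * n⁻¹) * (n * lprod (xG hD) l f * n⁻¹) := by
        rw [lprod_cons]; group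
      rw [e]
      refine mul_mem ?_ (ih fun s hs => hl s (List.mem_cons_of_mem _ hs))
      by_cases hm : m ≤ ht D s
      · obtain ⟨a', ha', -⟩ := acts_X hD hn hp.1 (f s)
        rw [ha', hfix s hp hm]
        exact Lv_anti hD h hm (xG_mem_Lv hD h hp a')
      · have h3 := cf_Lv hD h (r := s) (h1 s hs) (by omega)
        rw [cf_xG hD h hp.1 hp.1, if_pos rfl] at h3
        rw [h3, xG_zero, mul_one, mul_inv_cancel]
        exact one_mem _
  exact key _ fun _ hs => hs

/-- The conjugate of the root element of the unique root of height `m`. -/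
theorem stage1 {δ : ℕ} {m : ℤ} (hδ : D.IsPosRoot δ) (hm : ht D δ = m)
    (huniq : ∀ s, D.IsPosRoot s → ht D s = m → s = δ) {b n u : GL D.Idx K} {w : List ℕ}
    (hb : b ∈ D.borelSubgroup K) (hn : NW rho G n w) (hu : u ∈ D.posUnipotent K)
    (hfix : ∀ s, D.IsPosRoot s → m + 1 ≤ ht D s → wact D w s = s) :
    ∃ c : K, c ≠ 0 ∧ ∃ τ ∈ Lv K hD h (m + 1), (b * n * u)⁻¹ * xG hD δ 1 * (b * n * u) =
      u⁻¹ * xG hD (wact D w.reverse δ) c * u * τ := by
  have O := ord (K := K) hD h W.T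
  have Gd := RootComb.good_of_mem hD
  obtain ⟨h1, h2⟩ := borel_conj hD h (m := m) hb (by rw [← hm]; exact xG_mem_Lv hD h hδ (1 : K))
  obtain ⟨x, hx, h3⟩ := h2 δ hm
  rw [cf_xG hD h hδ.1 hδ.1, if_pos rfl, mul_one] at h3
  obtain ⟨y, hy⟩ : ∃ y, y = b⁻¹ * xG hD δ 1 * b := ⟨_, rfl⟩
  rw [← hy] at h1 h3
  have h4 : (xG hD δ x)⁻¹ * y ∈ Lv K hD h (m + 1) := by
    have hX : xG hD δ x ∈ Lv K hD h m := by rw [← hm]; exact xG_mem_Lv hD h hδ x
    refine mem_Lv_succ hD h O (mul_mem (inv_mem hX) h1) fun r hr hrm => ?_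
    have hrδ := huniq r hr hrm
    subst hrδ
    rw [cf_mul_left hD h (by rw [hm]; exact inv_mem hX) h1.1, cf_inv hD h (by rw [hm]; exact hX), h3,
      cf_xG hD h hr.1 hr.1, if_pos rfl]
    ring
  have hni := hn.acts.inv Gd hn.lt
  have hlt : ∀ a ∈ w.reverse, a < D.rank := fun a ha => hn.lt a (List.mem_reverse.1 ha)
  have h5 := n_conj_Lv W hni (fun s hs hms => by
    have := hfix s hs hms
    rw [← this, wact_reverse Gd hn.lt hs.1, this]) h4
  obtain ⟨c, hc, hc0⟩ := acts_X hD hni hδ.1 x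
  refine ⟨c, hc0 hx, u⁻¹ * (n⁻¹ * ((xG hD δ x)⁻¹ * y) * n⁻¹⁻¹) * u⁻¹⁻¹, conj_mem_Lv hD h h5 (inv_mem hu), ?_⟩
  rw [← hc, hy]
  group

theorem cf_long {r : ℕ} (hr : D.IsPosRoot r) (h1 : ht D r = 1) (hrho : rho r = r) (he : eps r = 1)
    {u : GL D.Idx K} (hu : u ∈ D.posUnipotent K) (huG : u ∈ G) : φ (cf r u) = cf r u := by
  have h2 := cf_rho W hr (g := u) (by rw [h1, Lv_one]; exact hu) (W.G_fix u huG)
  rw [hrho, he, Int.cast_one, one_mul] at h2
  exact h2.symm

theorem cf_rho_iter {r : ℕ} (hr : D.IsPosRoot r) (h1 : ht D r = 1) {u : GL D.Idx K} (hu : u ∈ D.posUnipotent K)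
    (huG : u ∈ G) (hc : φ (cf r u) = cf r u) (k : ℕ) :
    D.IsPosRoot (rho^[k] r) ∧ ht D (rho^[k] r) = 1 ∧ φ (cf (rho^[k] r) u) = cf (rho^[k] r) u := by
  induction k with
  | zero => exact ⟨hr, h1, hc⟩
  | succ k ih =>
    obtain ⟨i1, i2, i3⟩ := ih
    rw [Function.iterate_succ_apply']
    refine ⟨rho_pos W i1, by rw [W.T.rho_ht _ i1.1, i2], ?_⟩
    have h2 := cf_rho W i1 (g := u) (by rw [i2, Lv_one]; exact hu) (W.G_fix u huG)
    rw [h2, map_mul, map_intCast, i3]
    rw [i3]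

/-- elements of `Lv m` commute with `x_γ(c)` if no root of height `≥ m` can be added to `γ` -/
theorem commute_of_Lv {γ : ℕ} (hγ : γ < D.nroots) {m : ℤ}
    (hc : ∀ s, D.IsPosRoot s → m ≤ ht D s → γ ≠ s ∧ γ ≠ D.neg s ∧ add D s γ = D.nroots)
    {y : GL D.Idx K} (hy : y ∈ Lv K hD h m) (c : K) : Commute y (xG hD γ c) := by
  have O := ord (K := K) hD h W.T
  obtain ⟨f, rfl⟩ := O.ex y hy.1
  have h1 := factor_mem W hy
  have key : ∀ l : List ℕ, (∀ s ∈ l, s ∈ Lo.flatten) → Commute (lprod (xG hD) l f) (xG hD γ c) := by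
    intro l
    induction l with
    | nil => intro _; rw [lprod_nil]; exact Commute.one_left _
    | cons s l ih =>
      intro hl
      have hs := hl s List.mem_cons_self
      have hp := (O.mem s).1 hs
      rw [lprod_cons]
      refine Commute.mul_left ?_ (ih fun s hs => hl s (List.mem_cons_of_mem _ hs))
      by_cases hm : m ≤ ht D s
      · obtain ⟨c1, c2, c3⟩ := hc s hp hm
        rw [← commutatorElement_eq_one_iff_commute, comm_X hD h hp.1 hγ c1 c2, c3, xG_of_not_lt hD (lt_irrefl _),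
          mul_one, mul_inv_cancel]
      · have h3 := cf_Lv hD h (r := s) (h1 s hs) (by omega)
        rw [cf_xG hD h hp.1 hp.1, if_pos rfl] at h3
        rw [h3, xG_zero]
        exact Commute.one_left _
  exact key _ fun _ hs => hs

/-- stage with `w⁻¹ δ` positive -/
theorem stage_pos {H : Subgroup (GL D.Idx K)} (hA : ∀ u ∈ H, u ∈ D.posUnipotent K → fr D φ u = u)
    {δ : ℕ} {m : ℤ} (hδ : D.IsPosRoot δ) (hm : ht D δ = m)
    (huniq : ∀ s, D.IsPosRoot s → ht D s = m → s = δ) (hδH : xG hD δ (1 : K) ∈ H) {b n u : GL D.Idx K} {w : List ℕ}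
    (hb : b ∈ D.borelSubgroup K) (hn : NW rho G n w) (hu : u ∈ D.posUnipotent K) (hg : b * n * u ∈ H)
    (hfix : ∀ s, D.IsPosRoot s → m + 1 ≤ ht D s → wact D w s = s)
    (hγ : D.IsPosRoot (wact D w.reverse δ)) (hγm : ht D (wact D w.reverse δ) < m)
    {j : ℕ} (hj : D.IsPosRoot j) (hj1 : ht D j = 1) (hlt : add D (wact D w.reverse δ) j < D.nroots) :
    φ (cf j u) = cf j u := by
  have O := ord (K := K) hD h W.T
  obtain ⟨c, hc, τ, hτ, e⟩ := stage1 W hδ hm huniq hb hn hu hfix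
  have hz : (b * n * u)⁻¹ * xG hD δ 1 * (b * n * u) ∈ H := mul_mem (mul_mem (inv_mem hg) hδH) hg
  rw [e] at hz
  have hzU : u⁻¹ * xG hD (wact D w.reverse δ) c * u * τ ∈ D.posUnipotent K :=
    mul_mem (mul_mem (mul_mem (inv_mem hu) (xG_mem_posUnipotent hD hγ c)) hu) hτ.1
  have hf := hA _ hz hzU
  have hp := pos_of_add hD h hγ hj hlt
  refine LS hD h O φ hγ hj hj1 hlt hu hc (y := 1) (τ := τ) (one_mem _) (Lv_anti hD h (by omega) hτ) (cf_one _)
    ?_ ?_ ?_
  · rw [mul_one, cf_xG hD h hp.1.1 hγ.1, if_neg]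
    intro he
    have := hp.2.1
    rw [he] at this
    omega
  · rw [commutatorElement_one_right, cf_one]
  · rw [mul_one]
    exact hf

/-- stage with `w⁻¹ α` negative, `α` the highest root -/
theorem stage_neg {H : Subgroup (GL D.Idx K)} (hA : ∀ u ∈ H, u ∈ D.posUnipotent K → fr D φ u = u)
    {α : ℕ} {m : ℤ} (hα : D.IsPosRoot α) (hm : ht D α = m)
    (huniq : ∀ s, D.IsPosRoot s → ht D s = m → s = α) (htop : ∀ s, D.IsPosRoot s → ht D s ≤ m)
    (hαH : xG hD α (1 : K) ∈ H) {b n u : GL D.Idx K} {w : List ℕ}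
    (hb : b ∈ D.borelSubgroup K) (hn : NW rho G n w) (hu : u ∈ D.posUnipotent K) (hg : b * n * u ∈ H)
    {γ β : ℕ} (hγ : wact D w.reverse α = γ) (hβ : D.IsPosRoot β) (hβH : xG hD β (1 : K) ∈ H)
    (hc : ∀ s, D.IsPosRoot s → ht D β + 1 ≤ ht D s → γ ≠ s ∧ γ ≠ D.neg s ∧ add D s γ = D.nroots)
    (h1 : γ ≠ β) (h2 : γ ≠ D.neg β) (h3 : D.IsPosRoot (add D β γ)) (h4 : add D β γ ≠ γ)
    (h5 : add D β γ ≠ D.neg γ) (h6 : add D γ (add D β γ) = D.nroots)
    {j : ℕ} (hj : D.IsPosRoot j) (hj1 : ht D j = 1) (hlt : add D (add D β γ) j < D.nroots) :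
    φ (cf j u) = cf j u := by
  have O := ord (K := K) hD h W.T
  have Gd := RootComb.good_of_mem hD
  have hγlt : γ < D.nroots := by
    rw [← hγ]
    exact wact_lt Gd (fun a ha => hn.lt a (List.mem_reverse.1 ha)) hα.1
  obtain ⟨c, hc0, τ, hτ, e⟩ := stage1 W hα hm huniq hb hn hu (fun s hs hms => absurd (htop s hs) (by omega))
  have hτ1 : τ = 1 := eq_one_of_high W (fun r hr => by have := htop r hr; omega) hτ
  rw [hτ1, mul_one, hγ] at e
  have hz : (b * n * u)⁻¹ * xG hD α 1 * (b * n * u) ∈ H := mul_mem (mul_mem (inv_mem hg) hαH) hg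
  rw [e] at hz
  have hz2 : ⁅(xG hD β (1 : K) : GL D.Idx K), u⁻¹ * xG hD γ c * u⁆ ∈ H := by
    rw [commutatorElement_def]
    exact mul_mem (mul_mem (mul_mem hβH hz) (inv_mem hβH)) (inv_mem hz)
  have hτ2 : ⁅(xG hD β (1 : K) : GL D.Idx K)⁻¹, u⁆ ∈ Lv K hD h (ht D β + 1) :=
    comm_mem_Lv hD h (inv_mem (xG_mem_Lv hD h hβ 1)) (by rw [Lv_one]; exact hu)
  have hcm := commute_of_Lv W hγlt hc hτ2 c
  have e2 : ⁅(xG hD β (1 : K) : GL D.Idx K), u⁻¹ * xG hD γ c * u⁆ =
      u⁻¹ * ⁅(xG hD β (1 : K) : GL D.Idx K), xG hD γ c⁆ * u := by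
    obtain ⟨y, hy⟩ : ∃ y, y = ⁅(xG hD β (1 : K) : GL D.Idx K)⁻¹, u⁆ := ⟨_, rfl⟩
    rw [← hy] at hcm
    have e3 : u * xG hD β (1 : K) * u⁻¹ = xG hD β (1 : K) * y := by
      rw [hy, commutatorElement_def]; group
    have e4 : ⁅(xG hD β (1 : K) : GL D.Idx K), u⁻¹ * xG hD γ c * u⁆ =
        u⁻¹ * ⁅u * xG hD β (1 : K) * u⁻¹, xG hD γ c⁆ * u := by
      rw [commutatorElement_def, commutatorElement_def]; group
    rw [e4, e3]
    congr 2
    rw [commutatorElement_def, commutatorElement_def, mul_inv_rev]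
    calc xG hD β 1 * y * xG hD γ c * (y⁻¹ * (xG hD β 1)⁻¹) * (xG hD γ c)⁻¹
        = xG hD β 1 * (y * xG hD γ c) * (y⁻¹ * (xG hD β 1)⁻¹) * (xG hD γ c)⁻¹ := by group
      _ = xG hD β 1 * (xG hD γ c * y) * (y⁻¹ * (xG hD β 1)⁻¹) * (xG hD γ c)⁻¹ := by rw [hcm.eq]
      _ = _ := by group
  have e5 : ⁅(xG hD β (1 : K) : GL D.Idx K), xG hD γ c⁆ = xG hD (add D β γ) ((kap D β γ : K) * (1 * c)) := by
    rw [comm_X hD h hβ.1 hγlt h1 h2]
    have h7 : Commute (xG hD γ c : GL D.Idx K) (xG hD (add D β γ) ((kap D β γ : K) * (1 * c))) := by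
      rw [← commutatorElement_eq_one_iff_commute, comm_X hD h hγlt h3.1 h4 h5, h6,
        xG_of_not_lt hD (lt_irrefl _), mul_one, mul_inv_cancel]
    rw [h7.eq]
    group
  rw [e2, e5] at hz2
  have hk : (kap D β γ : K) * (1 * c) ≠ 0 := by
    rcases h.comm β hβ.1 γ hγlt h1 h2 with ⟨-, h8⟩ | ⟨-, -, h8, -⟩
    · have := h3.1
      omega
    · rw [one_mul]
      refine mul_ne_zero ?_ hc0
      rcases h8 with h8 | h8 <;> rw [h8] <;> simp
  generalize (kap D β γ : K) * (1 * c) = c' at hz2 hk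
  have hzU : u⁻¹ * xG hD (add D β γ) c' * u ∈ D.posUnipotent K :=
    mul_mem (mul_mem (inv_mem hu) (xG_mem_posUnipotent hD h3 c')) hu
  have hf := hA _ hz2 hzU
  have hp := pos_of_add hD h h3 hj hlt
  refine LS hD h O φ h3 hj hj1 hlt hu hk (y := 1) (τ := 1) (one_mem _) (one_mem _) (cf_one _) ?_ ?_ ?_
  · rw [mul_one, cf_xG hD h hp.1.1 h3.1, if_neg]
    intro he
    have := hp.2.1
    rw [he] at this
    omega
  · rw [commutatorElement_one_right, cf_one]
  · rw [mul_one, mul_one]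
    exact hf

end Tw

/-! ### The table condition -/

/-- The condition on a root `γ = w⁻¹ δ` and a class `o` of simple roots under which the coordinates of `u` at the
class are fixed. -/
def CaseOK (D : ChevalleyDatum) (rho : ℕ → ℕ) (eps : ℕ → ℤ) (betas : List ℕ) (γ δ : ℕ) (o : List ℕ) : Prop :=
  (∀ j ∈ o, rho (D.simple j) = D.simple j ∧ eps (D.simple j) = 1) ∨
  (D.IsPosRoot γ ∧ ht D γ < ht D δ ∧ ∃ j ∈ o, add D γ (D.simple j) < D.nroots) ∨
  (∃ β ∈ betas, (∀ s < D.nroots, D.IsPosRoot s → ht D β + 1 ≤ ht D s → γ ≠ s ∧ γ ≠ D.neg s ∧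
      add D s γ = D.nroots) ∧ γ ≠ β ∧ γ ≠ D.neg β ∧ D.IsPosRoot (add D β γ) ∧ add D β γ ≠ γ ∧
      add D β γ ≠ D.neg γ ∧ add D γ (add D β γ) = D.nroots ∧
      ∃ j ∈ o, add D (add D β γ) (D.simple j) < D.nroots)

/-- The table condition for a stage of the chain. -/
def StageOK (D : ChevalleyDatum) (rho : ℕ → ℕ) (eps : ℕ → ℤ) (cl : List (List ℕ)) (betas pre : List ℕ) (δ : ℕ) :
    Prop :=
  ∀ γ < D.nroots, rho γ = γ → γ ≠ δ → (∀ d ∈ pre, car D γ d = car D δ d) →
    ∃ o ∈ cl, (∀ j ∈ o, (∀ d ∈ pre, car D (D.simple j) d = 0) ∧ car D (D.simple j) γ < 0) ∧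
      CaseOK D rho eps betas γ δ o

/-- the pairing with the chain detects positivity -/
def LP (D : ChevalleyDatum) (pre : List ℕ) (δ : ℕ) : Prop :=
  ∀ s < D.nroots, D.IsPosRoot s → (∀ d ∈ pre, car D s d = 0) → 0 ≤ car D s δ

set_option synthInstance.maxHeartbeats 400000 in
set_option synthInstance.maxSize 2000 in
instance decCase (D : ChevalleyDatum) (rho : ℕ → ℕ) (eps : ℕ → ℤ) (betas : List ℕ) (γ δ : ℕ) (o : List ℕ) :
    Decidable (CaseOK D rho eps betas γ δ o) := by
  unfold CaseOK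
  infer_instance

set_option synthInstance.maxHeartbeats 400000 in
set_option synthInstance.maxSize 2000 in
instance decStage (D : ChevalleyDatum) (rho : ℕ → ℕ) (eps : ℕ → ℤ) (cl : List (List ℕ)) (betas pre : List ℕ)
    (δ : ℕ) : Decidable (StageOK D rho eps cl betas pre δ) := by
  unfold StageOK
  infer_instance

instance decLP (D : ChevalleyDatum) (pre : List ℕ) (δ : ℕ) : Decidable (LP D pre δ) := by
  unfold LP
  infer_instance

section Final

variable {D : ChevalleyDatum} {K : Type u} [Field K] {hD : InList D} {h : SL D} {Lo : List (List ℕ)}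
  {rho : ℕ → ℕ} {eps : ℕ → ℤ} {φ : K →+* K} {sg : GL D.Idx K →* GL D.Idx K} {G : Subgroup (GL D.Idx K)}
  (W : Tw hD h Lo rho eps φ sg G)

include W

/-- a stage of the chain -/
theorem stage {H : Subgroup (GL D.Idx K)} (hA : ∀ u ∈ H, u ∈ D.posUnipotent K → fr D φ u = u)
    {cl : List (List ℕ)} {betas pre : List ℕ} {δ : ℕ} (hS : StageOK D rho eps cl betas pre δ)
    (hLP : LP D pre δ) (hcl : ∀ o ∈ cl, ∀ j ∈ o, j < D.rank)
    (horb : ∀ o ∈ cl, ∀ j ∈ o, ∀ j' ∈ o, ∃ k, rho^[k] (D.simple j) = D.simple j')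
    (hbetas : ∀ β ∈ betas, D.IsPosRoot β ∧ xG hD β (1 : K) ∈ H) (hb0 : betas ≠ [] → ∀ s, D.IsPosRoot s → ht D s ≤ ht D δ)
    (hpre : ∀ d ∈ pre, d < D.nroots) (hδ : D.IsPosRoot δ)
    (hrδ : rho δ = δ)
    (huniq : ∀ s, D.IsPosRoot s → ht D s = ht D δ → s = δ) (hδH : xG hD δ (1 : K) ∈ H)
    (hhigh : ∀ s, D.IsPosRoot s → ht D δ + 1 ≤ ht D s → s ∈ pre) {b n u : GL D.Idx K} {w : List ℕ}
    (hb : b ∈ D.borelSubgroup K) (hn : NW rho G n w) (hu : u ∈ D.posUnipotent K) (huG : u ∈ G) (hg : b * n * u ∈ H)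
    (hw : ∀ d ∈ pre, wact D w d = d) (hne : wact D w δ ≠ δ) :
    ∃ o ∈ cl, (∀ j ∈ o, D.IsNegRoot (wact D w (D.simple j))) ∧
      ∀ j ∈ o, φ (cf (D.simple j) u) = cf (D.simple j) u := by
  have Gd := RootComb.good_of_mem hD
  have hwr : ∀ a ∈ w.reverse, a < D.rank := fun a ha => hn.lt a (List.mem_reverse.1 ha)
  obtain ⟨γ, hγ⟩ : ∃ γ, γ = wact D w.reverse δ := ⟨_, rfl⟩
  have hγlt : γ < D.nroots := by rw [hγ]; exact wact_lt Gd hwr hδ.1
  have hwγ : wact D w γ = δ := by rw [hγ]; exact wact_reverse' Gd hn.lt hδ.1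
  have hγδ : γ ≠ δ := by
    intro e
    rw [e] at hwγ
    exact hne hwγ
  have hργ : rho γ = γ := by
    refine wact_inj Gd hn.lt (W.T.rho_lt γ hγlt) hγlt ?_
    rw [hn.comm γ hγlt, hwγ, hrδ]
  have hpair : ∀ d ∈ pre, car D γ d = car D δ d := by
    intro d hd
    have h1 := car_wact Gd hn.lt hγlt (hpre d hd)
    rw [hwγ, hw d hd] at h1
    exact h1.symm
  obtain ⟨o, ho, hj, hcase⟩ := hS γ hγlt hργ hγδ hpair
  refine ⟨o, ho, fun j hjo => ?_, ?_⟩
  · have hjr := hcl o ho j hjo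
    have hsl := Gd.simple_lt hjr
    rcases pos_or_neg Gd (wact_lt Gd hn.lt hsl) with hp | hp
    · exfalso
      have h1 := hLP _ (wact_lt Gd hn.lt hsl) hp (fun d hd => by
        have h2 := car_wact Gd hn.lt hsl (hpre d hd)
        rw [hw d hd] at h2
        rw [h2]
        exact (hj j hjo).1 d hd)
      have h2 := car_wact Gd hn.lt hsl hγlt
      rw [hwγ] at h2
      rw [h2] at h1
      have := (hj j hjo).2
      omega
    · exact hp
  · have hone : (∃ j ∈ o, φ (cf (D.simple j) u) = cf (D.simple j) u) → ∀ j ∈ o, φ (cf (D.simple j) u) = cf (D.simple j) u := by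
      rintro ⟨j, hj1, hj2⟩ j' hj'
      obtain ⟨k, hk⟩ := horb o ho j hj1 j' hj'
      have hjr := hcl o ho j hj1
      have := cf_rho_iter W (Gd.simple_pos hjr) (h.simple j hjr) hu huG hj2 k
      rw [hk] at this
      exact this.2.2
    rcases hcase with hc | ⟨hp, hlt, j, hjo, hadd⟩ | ⟨β, hβ, hc, h1, h2, h3, h4, h5, h6, j, hjo, hadd⟩
    · intro j hjo
      have hjr := hcl o ho j hjo
      exact cf_long W (Gd.simple_pos hjr) (h.simple j hjr) (hc j hjo).1 (hc j hjo).2 hu huG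
    · apply hone
      have hjr := hcl o ho j hjo
      refine ⟨j, hjo, ?_⟩
      refine stage_pos W hA hδ rfl huniq hδH hb hn hu hg (fun s hs hms => hw s (hhigh s hs hms)) ?_ ?_
        (Gd.simple_pos hjr) (h.simple j hjr) ?_
      · rw [← hγ]; exact hp
      · rw [← hγ]; exact hlt
      · rw [← hγ]; exact hadd
    · apply hone
      have hjr := hcl o ho j hjo
      refine ⟨j, hjo, ?_⟩
      exact stage_neg W hA hδ rfl huniq (hb0 (by rintro rfl; simp at hβ)) hδH hb hn hu hg hγ.symm (hbetas β hβ).1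
        (hbetas β hβ).2 (fun s hs hms => hc s hs.1 hs hms) h1 h2 h3 h4 h5 h6 (Gd.simple_pos hjr) (h.simple j hjr) hadd

end Final

end Cfsg.Agent.H82.TwMax
end
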