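/-
# The `D₄` relation between involutions in characteristic two

`a, b, c` pairwise orthogonal roots, `z` a root with `z + a`, `z + b`, `z + c` roots, `d = a + b + c + 2 z` a root
(`a, b, c, d` are pairwise orthogonal and span a `D₄`).  With `t = x_a x_b x_c` and `s = x_z t x_z` (all parameters `1`)
one has `s t s⁻¹ = x_d t`; and `s` commutes with every `x_e` which commutes with `x_a, x_b, x_c, x_z`.

All hypotheses on the root indices are collected in the computable `d4chk`.
-/
import Cfsg.Agent.ChevalleyStructure.Elts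
import Cfsg.Agent.ChevalleyStructure.CommCheck
import Cfsg.Agent.S1025
set_option linter.all false

set_option autoImplicit false

namespace Cfsg.Agent.H82.D4Rel

open Cfsg.Lie Cfsg.Agent.ChevalleyStructure.Elts

universe u

/-! ### the abstract computation -/

theorem rel_abstract {G : Type*} [Group G] {A B C Z Za Zb Zc Zab Zac Zbc Zabc E : G}
    (hA : A * A = 1) (hB : B * B = 1) (hC : C * C = 1) (hZ : Z * Z = 1)
    (hAB : A * B = B * A) (hAC : A * C = C * A) (hBC : B * C = C * B)
    (h1 : C * Z * C = Z * Zc) (h2 : B * Z * B = Z * Zb) (h3 : B * Zc * B = Zc * Zbc)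
    (h4 : A * Z * A = Z * Za) (h5 : A * Zb * A = Zb * Zab) (h6 : A * Zc * A = Zc * Zac)
    (h7 : A * Zbc * A = Zbc * Zabc)
    (k1 : Z * Za = Za * Z) (k2 : Z * Zb = Zb * Z) (k3 : Z * Zc = Zc * Z) (k4 : Z * Zab = Zab * Z)
    (k5 : Z * Zac = Zac * Z) (k6 : Z * Zbc = Zbc * Z)
    (h8 : Z * Zabc * Z * Zabc⁻¹ = E)
    (e0 : E * Z = Z * E) (e1 : E * Za = Za * E) (e2 : E * Zb = Zb * E) (e3 : E * Zc = Zc * E)
    (e4 : E * Zab = Zab * E) (e5 : E * Zac = Zac * E) (e6 : E * Zbc = Zbc * E) :
    (Z * (A * B * C) * Z) * (A * B * C) * (Z * (A * B * C) * Z)⁻¹ = E * (A * B * C) := by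
  have iA : A⁻¹ = A := inv_eq_of_mul_eq_one_right hA
  have iB : B⁻¹ = B := inv_eq_of_mul_eq_one_right hB
  have iC : C⁻¹ = C := inv_eq_of_mul_eq_one_right hC
  have iZ : Z⁻¹ = Z := inv_eq_of_mul_eq_one_right hZ
  set t : G := A * B * C with ht
  have htt : t * t = 1 := by
    calc t * t = A * (B * (C * A) * B) * C := by rw [ht]; group
      _ = A * (B * A * (C * B)) * C := by rw [← hAC]; group
      _ = A * (A * B * (B * C)) * C := by rw [← hAB, ← hBC]
      _ = (A * A) * (B * B) * (C * C) := by group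
      _ = 1 := by rw [hA, hB, hC]; group
  have it : t⁻¹ = t := inv_eq_of_mul_eq_one_right htt
  set P : G := Z * Za * (Zb * Zab) * (Zc * Zac) * Zbc with hP
  have hT : t * Z * t = P * Zabc := by
    have s1 : t = C * B * A := by
      rw [ht, hAB, mul_assoc, hAC, ← mul_assoc, hBC]
    calc t * Z * t = A * B * C * Z * (C * B * A) := by rw [← s1]
      _ = A * (B * (C * Z * C) * B) * A := by group
      _ = A * (B * (Z * Zc) * B) * A := by rw [h1]
      _ = A * ((B * Z * B) * (B * B)⁻¹ * (B * Zc * B)) * A := by group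
      _ = A * ((Z * Zb) * (Zc * Zbc)) * A := by rw [hB, h2, h3, inv_one, mul_one]
      _ = (A * Z * A) * (A * A)⁻¹ * (A * Zb * A) * (A * A)⁻¹ * (A * Zc * A) * (A * A)⁻¹ * (A * Zbc * A) := by group
      _ = (Z * Za) * (Zb * Zab) * (Zc * Zac) * (Zbc * Zabc) := by
          rw [hA, h4, h5, h6, h7, inv_one, mul_one, mul_one, mul_one]
      _ = P * Zabc := by rw [hP]; group
  have hPZ : Z * P = P * Z := by
    have c0 : Commute Z Z := Commute.refl Z
    have : Commute Z P := by
      rw [hP]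
      exact ((((c0.mul_right k1).mul_right ((show Commute Z Zb from k2).mul_right k4)).mul_right
        ((show Commute Z Zc from k3).mul_right k5))).mul_right k6
    exact this
  have hPE : E * P = P * E := by
    have : Commute E P := by
      rw [hP]
      exact (((((show Commute E Z from e0).mul_right e1).mul_right ((show Commute E Zb from e2).mul_right e4)).mul_right
        ((show Commute E Zc from e3).mul_right e5))).mul_right e6
    exact this
  have hTT : (P * Zabc) * (P * Zabc) = 1 := by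
    rw [← hT]
    calc t * Z * t * (t * Z * t) = t * Z * (t * t) * Z * t := by group
      _ = t * (Z * Z) * t := by rw [htt]; group
      _ = 1 := by rw [hZ, mul_one, htt]
  have hTi : P * Zabc = Zabc⁻¹ * P⁻¹ := by
    have := inv_eq_of_mul_eq_one_right hTT
    rw [← this]
    group
  calc (Z * t * Z) * t * (Z * t * Z)⁻¹ = Z * (t * Z * t) * Z⁻¹ * t⁻¹ * Z⁻¹ := by group
    _ = Z * (t * Z * t) * Z * t * Z := by rw [iZ, it]
    _ = Z * (t * Z * t) * Z * (t * Z * t) * t := by
        have e : Z * (t * Z * t) * Z * (t * Z * t) * t = Z * (t * Z * t) * Z * (t * Z) * (t * t) := by group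
        rw [e, htt]
        group
    _ = Z * (P * Zabc) * Z * (P * Zabc) * t := by rw [hT]
    _ = Z * (P * Zabc) * Z * (Zabc⁻¹ * P⁻¹) * t := by rw [← hTi]
    _ = (Z * P) * Zabc * Z * Zabc⁻¹ * P⁻¹ * t := by group
    _ = P * (Z * Zabc * Z * Zabc⁻¹) * P⁻¹ * t := by rw [hPZ]; group
    _ = E * t := by rw [h8, ← hPE]; group

/-! ### the commutator relations between root elements with parameter `1` -/

/-- the roots `r`, `s` are not proportional, and the root elements commute in characteristic two -/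
def comB (D : ChevalleyDatum) (r s : ℕ) : Bool :=
  Nat.blt r D.nroots && Nat.blt s D.nroots && !(Nat.beq s r) && !(Nat.beq s (D.neg r)) &&
    (D.commTerms r s).all fun c => Nat.beq (c.2.1.natAbs % 2) 0

/-- the roots `r`, `s` are not proportional, `u = r + s` and the only commutator term is `x_u(± t u)` with an odd
coefficient -/
def relB (D : ChevalleyDatum) (r s u : ℕ) : Bool :=
  Nat.blt r D.nroots && Nat.blt s D.nroots && !(Nat.beq s r) && !(Nat.beq s (D.neg r)) &&
    match D.commTerms r s with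
    | [c] => Nat.beq c.1 u && Nat.beq (c.2.1.natAbs % 2) 1
    | _ => false

theorem of_blt {a b : ℕ} (h : Nat.blt a b = true) : a < b := by
  rwa [Nat.blt_eq] at h

variable {D : ChevalleyDatum} {F : Type u} [Field F] [CharP F 2]

theorem cast_of_even {c : ℤ} (h : Nat.beq (c.natAbs % 2) 0 = true) : ((c : ℤ) : F) = 0 := by
  have h1 : c.natAbs % 2 = 0 := Nat.eq_of_beq_eq_true h
  exact (CharP.intCast_eq_zero_iff F 2 c).2 (Int.natCast_dvd.2 (Nat.dvd_of_mod_eq_zero h1))

theorem cast_of_odd {c : ℤ} (h : Nat.beq (c.natAbs % 2) 1 = true) : ((c : ℤ) : F) = 1 := by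
  have h1 : c.natAbs % 2 = 1 := Nat.eq_of_beq_eq_true h
  have h2 : (((c - 1 : ℤ)) : F) = 0 := (CharP.intCast_eq_zero_iff F 2 (c - 1)).2 (by omega)
  rw [Int.cast_sub, Int.cast_one] at h2
  exact sub_eq_zero.1 h2

theorem neg_one_eq : (-1 : F) = 1 := by
  have : (1 : F) + 1 = 0 := by
    have := CharP.cast_eq_zero F 2
    norm_num at this
    rw [one_add_one_eq_two]
    exact this
  exact neg_eq_of_add_eq_zero_left this

theorem xG_comm (hD : InList D) {r s : ℕ} (h : comB D r s = true) (t v : F) :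
    xG hD s v * xG hD r t = xG hD r t * xG hD s v := by
  simp only [comB, Bool.and_eq_true, Bool.not_eq_true', List.all_eq_true] at h
  obtain ⟨⟨⟨⟨h1, h2⟩, h3⟩, h4⟩, h5⟩ := h
  have hr : r < D.nroots := of_blt h1
  have hs : s < D.nroots := of_blt h2
  have hrs : s ≠ r := Nat.ne_of_beq_eq_false h3
  have hn : s ≠ D.neg r := Nat.ne_of_beq_eq_false h4
  apply Units.ext
  have h6 := Cfsg.Agent.S1025.result (F := F) D hD r s hr hs hrs hn t v
  have h7 : D.wordMat F (D.commWord F r s t v) = 1 := by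
    apply Cfsg.Agent.ChevalleyStructure.CommCheck.wordMat_eq_one_of_zero
    intro c hc
    unfold ChevalleyDatum.commWord at hc
    rw [List.mem_map] at hc
    obtain ⟨d, hd, rfl⟩ := hc
    simp only [cast_of_even (F := F) (h5 d hd), zero_mul]
  rw [h7, mul_one] at h6
  exact h6

theorem xG_rel (hD : InList D) {r s u : ℕ} (h : relB D r s u = true) :
    xG hD s (1 : F) * xG hD r 1 = xG hD r 1 * xG hD s 1 * xG hD u 1 := by
  simp only [relB, Bool.and_eq_true, Bool.not_eq_true'] at h
  obtain ⟨⟨⟨⟨h1, h2⟩, h3⟩, h4⟩, h5⟩ := h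
  have hr : r < D.nroots := of_blt h1
  have hs : s < D.nroots := of_blt h2
  have hrs : s ≠ r := Nat.ne_of_beq_eq_false h3
  have hn : s ≠ D.neg r := Nat.ne_of_beq_eq_false h4
  apply Units.ext
  have h6 := Cfsg.Agent.S1025.result (F := F) D hD r s hr hs hrs hn 1 1
  have h7 : D.wordMat F (D.commWord F r s (1 : F) 1) = D.x F u 1 := by
    split at h5
    · next c hc =>
      rw [Bool.and_eq_true] at h5
      have hu : c.1 = u := Nat.eq_of_beq_eq_true h5.1
      unfold ChevalleyDatum.commWord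
      rw [hc, List.map_cons, List.map_nil, wordMat_cons, wordMat_nil, mul_one, cast_of_odd h5.2, one_pow,
        neg_one_eq, one_pow, mul_one, mul_one, hu]
    · exact absurd h5 (by simp)
  rw [h7] at h6
  exact h6

theorem xG_sq (hD : InList D) (r : ℕ) (t : F) : xG hD r t * xG hD r t = 1 := by
  have h2 : t + t = 0 := CharTwo.add_self_eq_zero t
  rw [xG_add, h2, xG_zero]

theorem xG_inv' (hD : InList D) (r : ℕ) (t : F) : (xG hD r t)⁻¹ = xG hD r t :=
  inv_eq_of_mul_eq_one_right (xG_sq hD r t)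

/-- `x_s x_r x_s = x_r x_{r+s}` -/
theorem xG_conj (hD : InList D) {r s u : ℕ} (h : relB D r s u = true) (h' : comB D s u = true) :
    xG hD s (1 : F) * xG hD r 1 * xG hD s 1 = xG hD r 1 * xG hD u 1 := by
  rw [xG_rel hD h, mul_assoc, xG_comm hD h', ← mul_assoc, mul_assoc (xG hD r 1), xG_sq, mul_one]

/-- All the conditions on the root indices in the `D₄` relation. -/
def d4chk (D : ChevalleyDatum) (a b c z d za zb zc zab zac zbc zabc : ℕ) : Bool :=
  (comB D b a && comB D c a && comB D c b) &&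
  (relB D z c zc && comB D c zc && relB D z b zb && comB D b zb && relB D zc b zbc && comB D b zbc) &&
  (relB D z a za && comB D a za && relB D zb a zab && comB D a zab && relB D zc a zac && comB D a zac &&
    relB D zbc a zabc && comB D a zabc) &&
  (comB D za z && comB D zb z && comB D zc z && comB D zab z && comB D zac z && comB D zbc z) &&
  (relB D zabc z d && comB D d z) &&
  (comB D za d && comB D zb d && comB D zc d && comB D zab d && comB D zac d && comB D zbc d && comB D zabc d)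

/-- **The `D₄` relation.** -/
theorem rel (hD : InList D) {a b c z d za zb zc zab zac zbc zabc : ℕ}
    (h : d4chk D a b c z d za zb zc zab zac zbc zabc = true) :
    (xG hD z (1 : F) * (xG hD a 1 * xG hD b 1 * xG hD c 1) * xG hD z 1) *
        (xG hD a 1 * xG hD b 1 * xG hD c 1) *
      (xG hD z (1 : F) * (xG hD a 1 * xG hD b 1 * xG hD c 1) * xG hD z 1)⁻¹ =
      xG hD d 1 * (xG hD a 1 * xG hD b 1 * xG hD c 1) := by
  simp only [d4chk, Bool.and_eq_true] at h
  obtain ⟨⟨⟨⟨⟨⟨⟨a1, a2⟩, a3⟩, ⟨⟨⟨⟨⟨b1, b2⟩, b3⟩, b4⟩, b5⟩, b6⟩⟩, ⟨⟨⟨⟨⟨⟨⟨c1, c2⟩, c3⟩, c4⟩, c5⟩, c6⟩, c7⟩, c8⟩⟩,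
    ⟨⟨⟨⟨⟨d1, d2⟩, d3⟩, d4⟩, d5⟩, d6⟩⟩, ⟨e1, e2⟩⟩, ⟨⟨⟨⟨⟨⟨f1, f2⟩, f3⟩, f4⟩, f5⟩, f6⟩, f7⟩⟩ := h
  refine rel_abstract (Za := xG hD za 1) (Zb := xG hD zb 1) (Zc := xG hD zc 1) (Zab := xG hD zab 1)
    (Zac := xG hD zac 1) (Zbc := xG hD zbc 1) (Zabc := xG hD zabc 1)
    (xG_sq hD _ _) (xG_sq hD _ _) (xG_sq hD _ _) (xG_sq hD _ _) (xG_comm hD a1 _ _) (xG_comm hD a2 _ _)
    (xG_comm hD a3 _ _) (xG_conj hD b1 b2) (xG_conj hD b3 b4) (xG_conj hD b5 b6) (xG_conj hD c1 c2)
    (xG_conj hD c3 c4) (xG_conj hD c5 c6) (xG_conj hD c7 c8) (xG_comm hD d1 _ _) (xG_comm hD d2 _ _)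
    (xG_comm hD d3 _ _) (xG_comm hD d4 _ _) (xG_comm hD d5 _ _) (xG_comm hD d6 _ _) ?_ ?_
    (xG_comm hD f1 _ _) (xG_comm hD f2 _ _) (xG_comm hD f3 _ _) (xG_comm hD f4 _ _) (xG_comm hD f5 _ _)
    (xG_comm hD f6 _ _)
  · rw [xG_rel hD e1, xG_inv']
    have h1 : xG hD zabc (1 : F) * xG hD z 1 * xG hD d 1 * xG hD z 1 * xG hD zabc 1 =
        xG hD zabc (1 : F) * (xG hD z 1 * xG hD d 1 * xG hD z 1) * xG hD zabc 1 := by group
    rw [h1, xG_comm hD e2, mul_assoc (xG hD d (1 : F)), xG_sq, mul_one, ← xG_comm hD f7, mul_assoc, xG_sq, mul_one]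
  · exact (xG_comm hD e2 _ _).symm

/-- the element `s = x_z x_a x_b x_c x_z` of the `D₄` relation -/
noncomputable def sG (hD : InList D) (F : Type u) [Field F] (a b c z : ℕ) : GL D.Idx F :=
  xG hD z (1 : F) * (xG hD a 1 * xG hD b 1 * xG hD c 1) * xG hD z 1

omit [CharP F 2] in
theorem sG_mem (hD : InList D) (a b c z : ℕ) : sG hD F a b c z ∈ D.group F :=
  mul_mem (mul_mem (xG_mem_group hD _ _) (mul_mem (mul_mem (xG_mem_group hD _ _) (xG_mem_group hD _ _))
    (xG_mem_group hD _ _))) (xG_mem_group hD _ _)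

theorem sG_rel (hD : InList D) {a b c z d za zb zc zab zac zbc zabc : ℕ}
    (h : d4chk D a b c z d za zb zc zab zac zbc zabc = true) :
    sG hD F a b c z * (xG hD a 1 * xG hD b 1 * xG hD c 1) * (sG hD F a b c z)⁻¹ =
      xG hD d 1 * (xG hD a 1 * xG hD b 1 * xG hD c 1) := rel hD h

/-- `s` commutes with the `x_e` which commute with `x_a, x_b, x_c, x_z`. -/
theorem sG_comm (hD : InList D) {a b c z e : ℕ} (ha : comB D e a = true) (hb : comB D e b = true)
    (hc : comB D e c = true) (hz : comB D e z = true) (t : F) :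
    sG hD F a b c z * xG hD e t = xG hD e t * sG hD F a b c z := by
  have c1 : Commute (xG hD a (1 : F)) (xG hD e t) := xG_comm hD ha t 1
  have c2 : Commute (xG hD b (1 : F)) (xG hD e t) := xG_comm hD hb t 1
  have c3 : Commute (xG hD c (1 : F)) (xG hD e t) := xG_comm hD hc t 1
  have c4 : Commute (xG hD z (1 : F)) (xG hD e t) := xG_comm hD hz t 1
  exact ((c4.mul_left ((c1.mul_left c2).mul_left c3)).mul_left c4)

/-- List form: if `L = a :: b :: c :: d :: R` and every `e ∈ R` is orthogonal to `a, b, c` and `z`, then the product of the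
`x_r(1)`, `r ∈ L`, is conjugate by `s` to the product over `a :: b :: c :: R`. -/
theorem list_rel (hD : InList D) {a b c z d za zb zc zab zac zbc zabc : ℕ}
    (h : d4chk D a b c z d za zb zc zab zac zbc zabc = true) (hd : (comB D a d && comB D b d && comB D c d) = true)
    (R : List ℕ) (hR : (R.all fun e => comB D e a && comB D e b && comB D e c && comB D e z) = true) :
    sG hD F a b c z * ((a :: b :: c :: R).map fun r => xG hD r (1 : F)).prod * (sG hD F a b c z)⁻¹ =
      ((a :: b :: c :: d :: R).map fun r => xG hD r (1 : F)).prod := by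
  have hs : ∀ l : List ℕ, (∀ e ∈ l, (comB D e a && comB D e b && comB D e c && comB D e z) = true) →
      Commute (sG hD F a b c z) (l.map fun r => xG hD r (1 : F)).prod := by
    intro l
    induction l with
    | nil => intro _; exact Commute.one_right _
    | cons e l ih =>
      intro hl
      rw [List.map_cons, List.prod_cons]
      have h0 := hl e List.mem_cons_self
      simp only [Bool.and_eq_true] at h0
      exact (show Commute _ _ from sG_comm hD h0.1.1.1 h0.1.1.2 h0.1.2 h0.2 1).mul_right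
        (ih fun e' he' => hl e' (List.mem_cons_of_mem _ he'))
  have h1 := hs R (List.all_eq_true.1 hR)
  have h2 := sG_rel (F := F) hD h
  simp only [Bool.and_eq_true] at hd
  have d1 : Commute (xG hD d (1 : F)) (xG hD a 1) := xG_comm hD hd.1.1 1 1
  have d2 : Commute (xG hD d (1 : F)) (xG hD b 1) := xG_comm hD hd.1.2 1 1
  have d3 : Commute (xG hD d (1 : F)) (xG hD c 1) := xG_comm hD hd.2 1 1
  have d4 : xG hD d (1 : F) * (xG hD a 1 * xG hD b 1 * xG hD c 1) =
      (xG hD a 1 * xG hD b 1 * xG hD c 1) * xG hD d 1 := ((d1.mul_right d2).mul_right d3)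
  simp only [List.map_cons, List.prod_cons]
  generalize (List.map (fun r => xG hD r (1 : F)) R).prod = y at h1 ⊢
  have h3 : sG hD F a b c z * y * (sG hD F a b c z)⁻¹ = y := by
    rw [h1.eq, mul_inv_cancel_right]
  calc sG hD F a b c z * (xG hD a 1 * (xG hD b 1 * (xG hD c 1 * y))) * (sG hD F a b c z)⁻¹
      = (sG hD F a b c z * (xG hD a 1 * xG hD b 1 * xG hD c 1) * (sG hD F a b c z)⁻¹) *
        (sG hD F a b c z * y * (sG hD F a b c z)⁻¹) := by group
    _ = xG hD d 1 * (xG hD a 1 * xG hD b 1 * xG hD c 1) * y := by rw [h2, h3]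
    _ = (xG hD a 1 * xG hD b 1 * xG hD c 1) * xG hD d 1 * y := by rw [d4]
    _ = _ := by group

end Cfsg.Agent.H82.D4Rel
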