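/-
# Centralizers of products of root elements (characteristic two)

`t = ∏_{α ∈ A} x_α(1)`; `E` the "bad" roots, `τ : E → S'` with `[x_s(c), t] = x_{τ s}(c)` for `s ∈ E`; all the other
positive roots and the roots of `Φ_J` centralise `t`.  If a positive combination of the `α ∈ A` is dominant with
stabiliser `W_J`, then `C_G(t)` is generated by the root groups centralising `t` (list `Ml`).
All conditions are computable (structure `Dat2`).
-/
import Cfsg.Agent.H82.D4Rel
import Cfsg.Agent.H92.ChevCent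
import Cfsg.Agent.ChevalleyStructure.NBlock_mg
import Cfsg.Agent.ChevalleyStructure.NConj
import Cfsg.Agent.S1034
import Cfsg.Agent.S1047
import Cfsg.Agent.S1048
set_option linter.all false

set_option autoImplicit false
set_option linter.unusedSectionVars false

namespace Cfsg.Agent.H82.Cent2

open Cfsg.Lie Cfsg.Agent.ChevalleyStructure.Elts Cfsg.Agent.ChevalleyStructure.RootCombGood
  Cfsg.Agent.ChevalleyStructure.RootWord Cfsg.Agent.ChevalleyStructure.BruhatSplit Cfsg.Agent.H82.D4Rel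

open Cfsg.Agent.ChevalleyStructure.Columns hiding car

open Cfsg.Agent.ChevalleyStructure.BlockMonomial

open scoped Pointwise

universe u

variable {D : ChevalleyDatum} {F : Type u} [Field F] [CharP F 2]

/-! ### groups generated by root subgroups -/

/-- the group generated by the root subgroups of a list of roots -/
def XS (F : Type u) [Field F] (D : ChevalleyDatum) (S : List ℕ) : Subgroup (GL D.Idx F) :=
  Subgroup.closure {g : GL D.Idx F | ∃ s ∈ S, ∃ c : F, (g : Matrix D.Idx D.Idx F) = D.x F s c}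

theorem xG_mem_XS (hD : InList D) {S : List ℕ} {s : ℕ} (hs : s ∈ S) (c : F) : xG hD s c ∈ XS F D S :=
  Subgroup.subset_closure ⟨s, hs, c, rfl⟩

theorem XS_le_iff (hD : InList D) {S : List ℕ} (K : Subgroup (GL D.Idx F)) :
    XS F D S ≤ K ↔ ∀ s ∈ S, ∀ c : F, xG hD s c ∈ K := by
  constructor
  · exact fun h s hs c => h (xG_mem_XS hD hs c)
  · intro h
    refine (Subgroup.closure_le _).2 ?_
    rintro g ⟨s, hs, c, hg⟩
    rw [(eq_xG_iff hD g s c).2 hg]
    exact h s hs c

theorem exists_word_XS (hD : InList D) {S : List ℕ} {y : GL D.Idx F} (hy : y ∈ XS F D S) :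
    ∃ l : List (ℕ × F), (∀ p ∈ l, p.1 ∈ S) ∧ y = wordG hD l := by
  let K : Subgroup (GL D.Idx F) :=
    { carrier := {y | ∃ l : List (ℕ × F), (∀ p ∈ l, p.1 ∈ S) ∧ y = wordG hD l}
      mul_mem' := by
        rintro a b ⟨l, hl, rfl⟩ ⟨l', hl', rfl⟩
        refine ⟨l ++ l', fun p hp => ?_, (wordG_append hD l l').symm⟩
        rcases List.mem_append.1 hp with hp | hp
        · exact hl p hp
        · exact hl' p hp
      one_mem' := ⟨[], by simp, (wordG_nil hD).symm⟩
      inv_mem' := by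
        rintro a ⟨l, hl, rfl⟩
        refine ⟨(l.map fun p => (p.1, -p.2)).reverse, fun p hp => ?_, ?_⟩
        · rw [List.mem_reverse, List.mem_map] at hp
          obtain ⟨q, hq, rfl⟩ := hp
          exact hl q hq
        · clear hl
          induction l with
          | nil => simp [wordG_nil]
          | cons p l ih =>
            rw [wordG_cons, mul_inv_rev, ih, List.map_cons, List.reverse_cons, wordG_append, wordG_cons, wordG_nil,
              mul_one, xG_inv] }
  exact (XS_le_iff hD K).2 (fun s hs c => ⟨[(s, c)], by simpa using hs, by rw [wordG_cons, wordG_nil, mul_one]⟩) hy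

/-! ### conjugation by root elements -/

/-- `X_r` moves the elements of `X_s` by elements of `⟨X_k : k ∈ S'⟩`. -/
def okB (D : ChevalleyDatum) (S' : List ℕ) (r s : ℕ) : Bool :=
  Nat.beq s r || (!(Nat.beq s (D.neg r)) &&
    (D.commTerms r s).all fun c => Nat.beq (c.2.1.natAbs % 2) 0 || decide (c.1 ∈ S'))

theorem conj_ok (hD : InList D) {S' : List ℕ} {r s : ℕ} (hr : r < D.nroots) (hs : s < D.nroots)
    (h : okB D S' r s = true) (t v : F) :
    ∃ W ∈ XS F D S', (xG hD r t)⁻¹ * xG hD s v * xG hD r t = xG hD s v * W := by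
  unfold okB at h
  rw [Bool.or_eq_true] at h
  rcases h with h | h
  · have hsr : s = r := Nat.eq_of_beq_eq_true h
    refine ⟨1, Subgroup.one_mem _, ?_⟩
    rw [hsr, mul_one, mul_assoc, xG_add, xG_inv, xG_add]
    congr 1
    ring
  · by_cases hsr : s = r
    · refine ⟨1, Subgroup.one_mem _, ?_⟩
      rw [hsr, mul_one, mul_assoc, xG_add, xG_inv, xG_add]
      congr 1
      ring
    · simp only [Bool.and_eq_true, Bool.not_eq_true', List.all_eq_true, Bool.or_eq_true] at h
      obtain ⟨h1, h2⟩ := h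
      have hn : s ≠ D.neg r := Nat.ne_of_beq_eq_false h1
      refine ⟨wordG hD (D.commWord F r s t v), ?_, ?_⟩
      · apply mem_of_xG_mem
        intro p hp
        unfold ChevalleyDatum.commWord at hp
        rw [List.mem_map] at hp
        obtain ⟨c, hc, rfl⟩ := hp
        rcases h2 c hc with h3 | h3
        · simp only [cast_of_even (F := F) h3, zero_mul]
          rw [xG_zero]
          exact Subgroup.one_mem _
        · exact xG_mem_XS hD (of_decide_eq_true h3) _
      · have h6 := Cfsg.Agent.S1025.result (F := F) D hD r s hr hs hsr hn t v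
        have h7 : xG hD s v * xG hD r t = xG hD r t * xG hD s v * wordG hD (D.commWord F r s t v) := by
          apply Units.ext
          simpa only [Units.val_mul, coe_xG, coe_wordG] using h6
        rw [mul_assoc, h7]
        group

theorem conj_ok' (hD : InList D) {S' : List ℕ} {r s : ℕ} (hr : r < D.nroots) (hs : s < D.nroots)
    (h : okB D S' r s = true) (t v : F) :
    ∃ W ∈ XS F D S', xG hD r t * xG hD s v * (xG hD r t)⁻¹ = xG hD s v * W := by
  obtain ⟨W, hW, e⟩ := conj_ok hD hr hs h (-t) v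
  refine ⟨W, hW, ?_⟩
  rw [← e, ← xG_inv, inv_inv]

/-- `XS S'` is normalised by `X_r` if all `okB r s`, `s ∈ S'`. -/
theorem conj_XS (hD : InList D) {S' : List ℕ} {r : ℕ} (hr : r < D.nroots) (hS : ∀ s ∈ S', s < D.nroots)
    (h : ∀ s ∈ S', okB D S' r s = true) (t : F) {y : GL D.Idx F} (hy : y ∈ XS F D S') :
    xG hD r t * y * (xG hD r t)⁻¹ ∈ XS F D S' := by
  have hle : XS F D S' ≤ (XS F D S').comap (MulAut.conj (xG hD r t)).toMonoidHom := by
    refine (XS_le_iff hD _).2 fun s hs c => ?_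
    show xG hD r t * xG hD s c * (xG hD r t)⁻¹ ∈ XS F D S'
    obtain ⟨W, hW, e⟩ := conj_ok' hD hr (hS s hs) (h s hs) t c
    rw [e]
    exact Subgroup.mul_mem _ (xG_mem_XS hD hs c) hW
  exact hle hy

/-! ### the diagonal subgroup -/

theorem diag_data (hD : InList D) {h : GL D.Idx F} (hh : h ∈ D.diagonalSubgroup F) :
    ∃ c : ℕ → F, (∀ i < D.rank, c i ≠ 0) ∧
      h = wordG hD ((List.range D.rank).flatMap fun i => D.hWord (D.simple i) (c i)) ∧
      ∀ s < D.nroots, ∀ t : F, h * xG hD s t * h⁻¹ =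
        xG hD s (((List.range D.rank).map fun i => c i ^ D.cartan i s).prod * t) := by
  obtain ⟨c, hc0, e⟩ := Cfsg.Agent.S1034.result D hD h hh
  have e' : h = wordG hD ((List.range D.rank).flatMap fun i => D.hWord (D.simple i) (c i)) :=
    (eq_wordG_iff hD h _).2 e
  have key : ∀ (l : List ℕ), (∀ i ∈ l, i < D.rank ∧ c i ≠ 0) → ∀ s < D.nroots, ∀ t : F,
      wordG hD (l.flatMap fun i => D.hWord (D.simple i) (c i)) * xG hD s t *
      (wordG hD (l.flatMap fun i => D.hWord (D.simple i) (c i)))⁻¹ =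
      xG hD s ((l.map fun i => c i ^ D.cartan i s).prod * t) := by
    intro l hl s hs t
    induction l with
    | nil =>
      rw [List.flatMap_nil, wordG_nil]
      simp
    | cons i l ih =>
      rw [List.flatMap_cons, wordG_append, List.map_cons, List.prod_cons]
      have h1 := ih fun j hj => hl j (List.mem_cons_of_mem _ hj)
      have h2 := hG_simple_conj hD (hl i List.mem_cons_self).1 hs (hl i List.mem_cons_self).2
        ((l.map fun i => c i ^ D.cartan i s).prod * t)
      rw [← h1] at h2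
      rw [mul_assoc (c i ^ D.cartan i s), ← h2]
      show hG hD (D.simple i) (c i) * _ * _ * (hG hD (D.simple i) (c i) * _)⁻¹ = _
      rw [mul_inv_rev]
      simp only [mul_assoc]
  refine ⟨c, hc0, e', fun s hs t => ?_⟩
  have := key (List.range D.rank) (fun i hi => ⟨List.mem_range.1 hi, hc0 i (List.mem_range.1 hi)⟩) s hs t
  rwa [← e'] at this

theorem diag_conj_root (hD : InList D) {h : GL D.Idx F} (hh : h ∈ D.diagonalSubgroup F) :
    ∃ χ : ℕ → F, (∀ s < D.nroots, χ s ≠ 0) ∧ ∀ s < D.nroots, ∀ c : F, h * xG hD s c * h⁻¹ = xG hD s (χ s * c) := by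
  obtain ⟨c, hc0, -, h2⟩ := diag_data hD hh
  refine ⟨fun s => ((List.range D.rank).map fun i => c i ^ D.cartan i s).prod, fun s hs => ?_, h2⟩
  apply List.prod_ne_zero
  intro h0
  rw [List.mem_map] at h0
  obtain ⟨i, hi, e0⟩ := h0
  exact zpow_ne_zero _ (hc0 i (List.mem_range.1 hi)) e0

theorem diag_conj_XS (hD : InList D) {S : List ℕ} (hS : ∀ s ∈ S, s < D.nroots) {h : GL D.Idx F}
    (hh : h ∈ D.diagonalSubgroup F) {y : GL D.Idx F} (hy : y ∈ XS F D S) : h * y * h⁻¹ ∈ XS F D S := by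
  obtain ⟨χ, -, hχ⟩ := diag_conj_root hD hh
  have hle : XS F D S ≤ (XS F D S).comap (MulAut.conj h).toMonoidHom := by
    refine (XS_le_iff hD _).2 fun s hs c => ?_
    show h * xG hD s c * h⁻¹ ∈ XS F D S
    rw [hχ s (hS s hs)]
    exact xG_mem_XS hD hs _
  exact hle hy

/-! ### the set `Ω = {∏ x_α(a_α) · y : a_α ≠ 0, y ∈ Y}` -/

/-- product of root elements over a list -/
def PA (hD : InList D) (A : List ℕ) (a : ℕ → F) : GL D.Idx F := (A.map fun α => xG hD α (a α)).prod

theorem PA_nil (hD : InList D) (a : ℕ → F) : PA hD [] a = 1 := rfl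

theorem PA_cons (hD : InList D) (α : ℕ) (A : List ℕ) (a : ℕ → F) : PA hD (α :: A) a = xG hD α (a α) * PA hD A a := by
  simp [PA]

theorem PA_mem (hD : InList D) {A : List ℕ} {K : Subgroup (GL D.Idx F)} {a : ℕ → F}
    (h : ∀ α ∈ A, xG hD α (a α) ∈ K) : PA hD A a ∈ K := by
  induction A with
  | nil => exact Subgroup.one_mem _
  | cons α A ih =>
    rw [PA_cons]
    exact Subgroup.mul_mem _ (h α List.mem_cons_self) (ih fun β hβ => h β (List.mem_cons_of_mem _ hβ))

/-- membership in `Ω` -/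
def Om (hD : InList D) (A S' : List ℕ) (z : GL D.Idx F) : Prop :=
  ∃ a : ℕ → F, (∀ α ∈ A, a α ≠ 0) ∧ ∃ y ∈ XS F D S', z = PA hD A a * y

theorem PA_conj (hD : InList D) {S' : List ℕ} {g : GL D.Idx F}
    (A : List ℕ) (hA : ∀ α ∈ A, ∀ c : F, ∀ y ∈ XS F D S', (xG hD α c)⁻¹ * y * xG hD α c ∈ XS F D S')
    (χ : ℕ → F) (hχ : ∀ α ∈ A, χ α ≠ 0)
    (hg : ∀ α ∈ A, ∀ c : F, ∃ W ∈ XS F D S', g * xG hD α c * g⁻¹ = xG hD α (χ α * c) * W) (a : ℕ → F) :
    ∃ W ∈ XS F D S', g * PA hD A a * g⁻¹ = PA hD A (fun α => χ α * a α) * W := by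
  induction A with
  | nil => exact ⟨1, Subgroup.one_mem _, by rw [PA_nil, PA_nil]; group⟩
  | cons α A ih =>
    obtain ⟨W, hW, e⟩ := ih (fun β hβ => hA β (List.mem_cons_of_mem _ hβ))
      (fun β hβ => hχ β (List.mem_cons_of_mem _ hβ)) (fun β hβ => hg β (List.mem_cons_of_mem _ hβ))
    obtain ⟨W', hW', e'⟩ := hg α List.mem_cons_self (a α)
    have h1 : (PA hD A fun α => χ α * a α)⁻¹ * W' * (PA hD A fun α => χ α * a α) ∈ XS F D S' := by
      have : ∀ B : List ℕ, (∀ β ∈ B, β ∈ α :: A) → ∀ y ∈ XS F D S',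
          (PA hD B fun α => χ α * a α)⁻¹ * y * (PA hD B fun α => χ α * a α) ∈ XS F D S' := by
        intro B
        induction B with
        | nil =>
          intro _ y hy
          rw [PA_nil]
          simpa using hy
        | cons β B ihB =>
          intro hB y hy
          rw [PA_cons, mul_inv_rev]
          have h2 := hA β (hB β List.mem_cons_self) (χ β * a β) y hy
          have h3 := ihB (fun γ hγ => hB γ (List.mem_cons_of_mem _ hγ)) _ h2
          simpa only [mul_assoc] using h3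
      exact this A (fun β hβ => List.mem_cons_of_mem _ hβ) W' hW'
    refine ⟨_, Subgroup.mul_mem _ h1 hW, ?_⟩
    rw [PA_cons, PA_cons]
    calc g * (xG hD α (a α) * PA hD A a) * g⁻¹ = (g * xG hD α (a α) * g⁻¹) * (g * PA hD A a * g⁻¹) := by group
      _ = _ := by rw [e, e']; group

/-! ### entries in the columns of the `h_i` -/

/-- `x_r(c) e_s = e_s` -/
def indB (D : ChevalleyDatum) (r s : ℕ) : Bool :=
  Nat.beq s r || (!(Nat.beq s (D.neg r)) && (D.chainEntry r s).all fun c => Nat.beq (c.2.natAbs % 2) 0)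

theorem chSum_even (f : ℕ → F) (t : F) : ∀ (k : ℕ) (l : List (ℕ × ℤ)), (∀ c ∈ l, Nat.beq (c.2.natAbs % 2) 0 = true) →
    chSum f t k l = 0
  | _, [], _ => rfl
  | k, e :: l, h => by
    rw [chSum_cons, chSum_even f t (k + 1) l (fun c hc => h c (List.mem_cons_of_mem _ hc)),
      cast_of_even (F := F) (h e List.mem_cons_self)]
    ring

theorem x_col_of_ind (hD : InList D) {r : ℕ} (hr : r < D.nroots) {s : Fin D.nroots} (h : indB D r s.val = true) (c : F)
    (v : D.Idx) : D.x F r c v (Sum.inr s) = dl F D v s.val := by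
  rw [x_of_lt hr]
  by_cases hsr : s.val = r
  · have e : s = ⟨r, hr⟩ := Fin.ext hsr
    rw [e, xMat_self]
  · unfold indB at h
    rw [Bool.or_eq_true] at h
    rcases h with h | h
    · exact absurd (Nat.eq_of_beq_eq_true h) hsr
    · simp only [Bool.and_eq_true, Bool.not_eq_true', List.all_eq_true] at h
      have hn : s.val ≠ D.neg r := Nat.ne_of_beq_eq_false h.1
      have hsr' : s ≠ ⟨r, hr⟩ := fun e => hsr (congrArg Fin.val e)
      have hG := Cfsg.Agent.ChevalleyStructure.Good.goodAt_of_mem D hD r hr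
      rw [xMat_ne D ⟨r, hr⟩ c v s hn hsr' hG.sorted, chSum_even _ _ _ _ h.2, add_zero]

theorem sum_mul_dl' (A : D.Idx → F) {s : ℕ} (hs : s < D.nroots) :
    ∑ v : D.Idx, A v * dl F D v s = A (Sum.inr ⟨s, hs⟩) := by
  rw [Fintype.sum_sum_type]
  simp only [dl_inl, dl_inr, mul_zero, Finset.sum_const_zero, zero_add]
  rw [Finset.sum_eq_single ⟨s, hs⟩]
  · simp
  · intro b _ hb
    rw [if_neg (fun e => hb (Fin.ext e)), mul_zero]
  · intro h
    exact absurd (Finset.mem_univ _) h

/-- the column `h_i` of a word in pairwise independent roots -/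
theorem word_col (hD : InList D) (S : List ℕ) (hS : ∀ s ∈ S, s < D.nroots) (hi : ∀ r ∈ S, ∀ s ∈ S, indB D r s = true) :
    ∀ (l : List (ℕ × F)), (∀ p ∈ l, p.1 ∈ S) → ∀ (i : Fin D.rank) (v : D.Idx),
      D.wordMat F l v (Sum.inl i) = (if v = Sum.inl i then 1 else 0) -
        (l.map fun p => ((D.cartan i p.1 : ℤ) : F) * p.2 * dl F D v p.1).sum
  | [], _, i, v => by
    rw [wordMat_nil, List.map_nil, List.sum_nil, sub_zero, Matrix.one_apply]
  | p :: l, hl, i, v => by
    have ih := word_col hD S hS hi l (fun q hq => hl q (List.mem_cons_of_mem _ hq)) i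
    have hp := hl p List.mem_cons_self
    have hpr := hS _ hp
    rw [wordMat_cons, Matrix.mul_apply]
    simp only [ih, mul_sub, Finset.sum_sub_distrib]
    have h1 : ∑ x : D.Idx, D.x F p.1 p.2 v x * (if x = Sum.inl i then 1 else 0) = D.x F p.1 p.2 v (Sum.inl i) := by
      simp
    rw [h1, x_of_lt hpr, xMat_inl, List.map_cons, List.sum_cons, ← x_of_lt hpr]
    have h2 : ∑ x : D.Idx, D.x F p.1 p.2 v x * (l.map fun q => ((D.cartan i q.1 : ℤ) : F) * q.2 * dl F D x q.1).sum =
        (l.map fun q => ((D.cartan i q.1 : ℤ) : F) * q.2 * dl F D v q.1).sum := by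
      have hl' : ∀ q ∈ l, q.1 ∈ S := fun q hq => hl q (List.mem_cons_of_mem _ hq)
      clear ih hl h1
      induction l with
      | nil => simp
      | cons q l ih =>
        simp only [List.map_cons, List.sum_cons, mul_add, Finset.sum_add_distrib]
        rw [ih fun q' hq' => hl' q' (List.mem_cons_of_mem _ hq')]
        congr 1
        have hq := hl' q List.mem_cons_self
        have : ∀ x : D.Idx, D.x F p.1 p.2 v x * (((D.cartan i q.1 : ℤ) : F) * q.2 * dl F D x q.1) =
            (((D.cartan i q.1 : ℤ) : F) * q.2) * (D.x F p.1 p.2 v x * dl F D x q.1) := fun x => by ring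
        simp only [this]
        rw [← Finset.mul_sum, sum_mul_dl' _ (hS _ hq),
          x_col_of_ind hD hpr (s := ⟨q.1, hS _ hq⟩) (hi _ hp _ hq)]
    rw [h2]
    show (_ - ((D.cartan i p.1 : ℤ) : F) * p.2 * dl F D v p.1) - _ = _
    ring

/-! ### the data -/

/-- as `relB`, and the only term has `i = j = 1` -/
def relC (D : ChevalleyDatum) (r s u : ℕ) : Bool :=
  !(Nat.beq s r) && !(Nat.beq s (D.neg r)) &&
    match D.commTerms r s with
    | [c] => Nat.beq c.1 u && Nat.beq (c.2.1.natAbs % 2) 1 && Nat.beq c.2.2.1 1 && Nat.beq c.2.2.2 1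
    | _ => false

/-- The sum `∑_{α ∈ A} wt α * A_{α, r}`. -/
def fw (D : ChevalleyDatum) (A : List ℕ) (wt : ℕ → ℤ) (r : ℕ) : ℤ := (A.map fun α => wt α * car D α r).sum

/-- The combinatorial data. -/
structure Dat2 (D : ChevalleyDatum) (A E S' J Vl Ml : List ℕ) (τ : ℕ → ℕ) (wt : ℕ → ℤ) (inv : ℕ → ℕ)
    (bm : ℕ → ℕ → ℤ) : Prop where
  lt : ∀ s ∈ A ++ S', s < D.nroots
  nodup : (A ++ S').Nodup
  Apos : ∀ α ∈ A, D.nroots / 2 ≤ α
  Jfix : ∀ i ∈ J, i < D.rank ∧ ∀ α ∈ A, D.cartan i α = 0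
  odd : ∀ s ∈ A ++ S', ∃ i < D.rank, Nat.beq ((D.cartan i s).natAbs % 2) 1 = true
  pos : ∀ r < D.nroots, D.nroots / 2 ≤ r → ∀ s ∈ A ++ S', okB D S' r s = true
  ind : ∀ r ∈ A ++ S', ∀ s ∈ A ++ S', indB D r s = true
  hinv : ∀ i < D.rank, ∀ s < D.nroots, inv (D.reflectRoot i s) = inv s
  pair : ∀ α ∈ A, ∃ β ∈ A, ∀ α' ∈ A ++ S', ∀ β' ∈ A ++ S', inv α' = inv α → inv β' = inv β →
    car D α' β' = car D α β → car D β' α' = car D β α → α' = α
  wtneg : ∀ r < D.nroots / 2, fw D A wt r ≤ 0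
  wtJ : ∀ i < D.rank, i ∉ J → 0 < fw D A wt (D.simple i)
  Mlt : ∀ r ∈ Ml, r < D.nroots ∧ ∀ α ∈ A, α = r ∨ comB D r α = true
  Mpos : ∀ r < D.nroots, D.nroots / 2 ≤ r → r ∈ Ml ∨ r ∈ E
  MJ : ∀ r < D.nroots, (∀ i < D.rank, i ∉ J → co D r i = 0) → r ∈ Ml
  Js : ∀ i ∈ J, D.simple i ∈ Ml ∧ D.neg (D.simple i) ∈ Ml
  Elt : ∀ s ∈ E, s < D.nroots
  Vlt : ∀ r ∈ Vl, r < D.nroots ∧ r ∈ Ml
  Vpos : ∀ r < D.nroots, D.nroots / 2 ≤ r → (∃ i < D.rank, i ∉ J ∧ co D r i ≠ 0) → r ∈ Vl ∨ r ∈ E
  EV : ∀ s ∈ E, ∀ r ∈ Vl, okB D Vl s r = true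
  EE : ∀ s ∈ E, ∀ r ∈ E, okB D Vl s r = true
  Et : ∀ s ∈ E, ∃ α ∈ A, relC D s α (τ s) = true ∧ ∀ β ∈ A, β ≠ α → comB D s β = true
  EA : ∀ s ∈ E, ∀ r ∈ A ++ S', comB D (τ s) r = true ∨ r = τ s
  EY : ∀ s ∈ E, ∀ s' ∈ E, comB D s (τ s') = true
  Eτ : ∀ s ∈ E, τ s ∈ S'
  Einj : ∀ s ∈ E, ∀ s' ∈ E, τ s = τ s' → s = s'
  Enodup : E.Nodup
  dual : ∀ i < D.rank, i ∉ J → ∀ j < D.rank, (A.map fun α => bm i α * D.cartan j α).sum = if i = j then 1 else 0

variable {A E S' J Vl Ml : List ℕ} {τ : ℕ → ℕ} {wt : ℕ → ℤ} {inv : ℕ → ℕ} {bm : ℕ → ℕ → ℤ}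

/-! ### entries of elements of `Ω` -/

theorem PA_eq_wordG (hD : InList D) (A : List ℕ) (a : ℕ → F) : PA hD A a = wordG hD (A.map fun α => (α, a α)) := by
  unfold PA wordG
  rw [List.map_map]
  rfl

theorem sum_ite (c : ℕ → F) (u : ℕ) : ∀ (A : List ℕ), A.Nodup →
    (A.map fun α => c α * (if u = α then 1 else 0)).sum = if u ∈ A then c u else 0
  | [], _ => by simp
  | α :: A, h => by
    rw [List.nodup_cons] at h
    rw [List.map_cons, List.sum_cons, sum_ite c u A h.2]
    by_cases hu : u = α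
    · subst hu
      simp [h.1]
    · by_cases hA : u ∈ A
      · simp [hu, hA]
      · simp [hu, hA]

/-- entries of a word whose roots are in `A ++ S'` and whose `A`-part is `A.map (α, a α)`. -/
theorem entry_word (hD : InList D) (T : Dat2 D A E S' J Vl Ml τ wt inv bm) (a : ℕ → F) (l : List (ℕ × F))
    (hl : ∀ p ∈ l, p.1 ∈ S') (u : Fin D.nroots) (i : Fin D.rank) :
    (((PA hD A a * wordG hD l : GL D.Idx F)) : Matrix D.Idx D.Idx F) (Sum.inr u) (Sum.inl i) =
      - ((if u.val ∈ A then ((D.cartan i u : ℤ) : F) * a u else 0) +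
        (l.map fun p => ((D.cartan i p.1 : ℤ) : F) * p.2 * dl F D (Sum.inr u) p.1).sum) := by
  rw [PA_eq_wordG, ← wordG_append, coe_wordG, word_col hD (A ++ S') T.lt T.ind]
  · rw [if_neg (by simp), zero_sub, List.map_append, List.sum_append, List.map_map]
    congr 2
    have h1 := sum_ite (fun α => ((D.cartan i α : ℤ) : F) * a α) u.val A (List.Nodup.of_append_left T.nodup)
    rw [← h1]
    congr 1
  · intro p hp
    rcases List.mem_append.1 hp with hp | hp
    · obtain ⟨α, hα, rfl⟩ := List.mem_map.1 hp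
      exact List.mem_append_left _ hα
    · exact List.mem_append_right _ (hl p hp)

theorem sum_dl_zero (l : List (ℕ × F)) (u : Fin D.nroots) (i : Fin D.rank) (h : ∀ p ∈ l, p.1 ≠ u.val) :
    (l.map fun p => ((D.cartan i p.1 : ℤ) : F) * p.2 * dl F D (Sum.inr u) p.1).sum = 0 := by
  apply List.sum_eq_zero
  intro x hx
  obtain ⟨p, hp, rfl⟩ := List.mem_map.1 hx
  rw [dl_inr, if_neg (fun e => h p hp e.symm), mul_zero]

theorem not_mem_of_nodup (T : Dat2 D A E S' J Vl Ml τ wt inv bm) {u : ℕ} (hu : u ∈ A) : u ∉ S' := by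
  intro h
  exact (List.disjoint_of_nodup_append T.nodup) hu h

theorem Om_entry_ne (hD : InList D) (T : Dat2 D A E S' J Vl Ml τ wt inv bm) {z : GL D.Idx F} (hz : Om hD A S' z)
    {u : Fin D.nroots} (hu : u.val ∈ A) :
    ∃ i : Fin D.rank, (z : Matrix D.Idx D.Idx F) (Sum.inr u) (Sum.inl i) ≠ 0 := by
  obtain ⟨a, ha, y, hy, rfl⟩ := hz
  obtain ⟨l, hl, rfl⟩ := exists_word_XS hD hy
  obtain ⟨i, hi, hodd⟩ := T.odd u.val (List.mem_append_left _ hu)
  refine ⟨⟨i, hi⟩, ?_⟩
  rw [entry_word hD T a l hl, if_pos hu, sum_dl_zero l u _ (fun p hp e => not_mem_of_nodup T hu (e ▸ hl p hp)), add_zero]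
  show -(((D.cartan i u.val : ℤ) : F) * a u.val) ≠ 0
  rw [cast_of_odd hodd, one_mul]
  exact neg_ne_zero.2 (ha _ hu)

theorem Om_entry_zero (hD : InList D) (T : Dat2 D A E S' J Vl Ml τ wt inv bm) {z : GL D.Idx F} (hz : Om hD A S' z)
    {u : Fin D.nroots} (hu : u.val ∉ A ++ S') (i : Fin D.rank) :
    (z : Matrix D.Idx D.Idx F) (Sum.inr u) (Sum.inl i) = 0 := by
  obtain ⟨a, ha, y, hy, rfl⟩ := hz
  obtain ⟨l, hl, rfl⟩ := exists_word_XS hD hy
  rw [entry_word hD T a l hl, if_neg (fun h => hu (List.mem_append_left _ h)),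
    sum_dl_zero l u _ (fun p hp e => hu (List.mem_append_right _ (e ▸ hl p hp))), add_zero, neg_zero]

/-! ### `Ω` is invariant under `B` -/

theorem Om_conj_root (hD : InList D) (T : Dat2 D A E S' J Vl Ml τ wt inv bm) {r : ℕ} (hr : r < D.nroots)
    (hr' : D.nroots / 2 ≤ r) (t : F) {z : GL D.Idx F} (hz : Om hD A S' z) :
    Om hD A S' (xG hD r t * z * (xG hD r t)⁻¹) := by
  obtain ⟨a, ha, y, hy, rfl⟩ := hz
  have hS : ∀ s ∈ S', s < D.nroots := fun s hs => T.lt s (List.mem_append_right _ hs)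
  have hA : ∀ α ∈ A, ∀ c : F, ∀ y ∈ XS F D S', (xG hD α c)⁻¹ * y * xG hD α c ∈ XS F D S' := by
    intro α hα c y hy
    have h1 := conj_XS hD (T.lt α (List.mem_append_left _ hα)) hS
      (fun s hs => T.pos α (T.lt α (List.mem_append_left _ hα)) (T.Apos α hα) s (List.mem_append_right _ hs)) (-c) hy
    rwa [← xG_inv, inv_inv] at h1
  obtain ⟨W, hW, e⟩ := PA_conj hD (g := xG hD r t) A hA (fun _ => 1) (fun _ _ => one_ne_zero)
    (fun α hα c => by
      obtain ⟨W, hW, e⟩ := conj_ok' hD hr (T.lt α (List.mem_append_left _ hα))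
        (T.pos r hr hr' α (List.mem_append_left _ hα)) t c
      exact ⟨W, hW, by rw [e, one_mul]⟩) a
  refine ⟨fun α => 1 * a α, fun α hα => ?_, _, Subgroup.mul_mem _ hW (conj_XS hD hr hS
    (fun s hs => T.pos r hr hr' s (List.mem_append_right _ hs)) t hy), ?_⟩
  · show 1 * a α ≠ 0
    rw [one_mul]
    exact ha α hα
  · calc xG hD r t * (PA hD A a * y) * (xG hD r t)⁻¹ =
        (xG hD r t * PA hD A a * (xG hD r t)⁻¹) * (xG hD r t * y * (xG hD r t)⁻¹) := by group
      _ = _ := by rw [e]; group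

theorem Om_conj_diag (hD : InList D) (T : Dat2 D A E S' J Vl Ml τ wt inv bm) {h : GL D.Idx F}
    (hh : h ∈ D.diagonalSubgroup F) {z : GL D.Idx F} (hz : Om hD A S' z) : Om hD A S' (h * z * h⁻¹) := by
  obtain ⟨a, ha, y, hy, rfl⟩ := hz
  have hS : ∀ s ∈ S', s < D.nroots := fun s hs => T.lt s (List.mem_append_right _ hs)
  have hA : ∀ α ∈ A, ∀ c : F, ∀ y ∈ XS F D S', (xG hD α c)⁻¹ * y * xG hD α c ∈ XS F D S' := by
    intro α hα c y hy
    have h1 := conj_XS hD (T.lt α (List.mem_append_left _ hα)) hS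
      (fun s hs => T.pos α (T.lt α (List.mem_append_left _ hα)) (T.Apos α hα) s (List.mem_append_right _ hs)) (-c) hy
    rwa [← xG_inv, inv_inv] at h1
  obtain ⟨χ, hχ0, hχ⟩ := diag_conj_root hD hh
  obtain ⟨W, hW, e⟩ := PA_conj hD (g := h) A hA χ (fun α hα => hχ0 α (T.lt α (List.mem_append_left _ hα)))
    (fun α hα c => ⟨1, Subgroup.one_mem _, by rw [hχ α (T.lt α (List.mem_append_left _ hα)), mul_one]⟩) a
  refine ⟨fun α => χ α * a α, fun α hα => ?_, _, Subgroup.mul_mem _ hW (diag_conj_XS hD hS hh hy), ?_⟩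
  · exact mul_ne_zero (hχ0 α (T.lt α (List.mem_append_left _ hα))) (ha α hα)
  · calc h * (PA hD A a * y) * h⁻¹ = (h * PA hD A a * h⁻¹) * (h * y * h⁻¹) := by group
      _ = _ := by rw [e]; group

theorem Om_conj_borel (hD : InList D) (T : Dat2 D A E S' J Vl Ml τ wt inv bm) {b : GL D.Idx F}
    (hb : b ∈ D.borelSubgroup F) {z : GL D.Idx F} (hz : Om hD A S' z) : Om hD A S' (b * z * b⁻¹) := by
  have G : Good D := Cfsg.Agent.ChevalleyStructure.RootComb.good_of_mem hD
  let K : Subgroup (GL D.Idx F) :=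
    { carrier := {g | (∀ z, Om hD A S' z → Om hD A S' (g * z * g⁻¹)) ∧ ∀ z, Om hD A S' z → Om hD A S' (g⁻¹ * z * g)}
      mul_mem' := by
        rintro a b ⟨ha, ha'⟩ ⟨hb, hb'⟩
        refine ⟨fun z hz => ?_, fun z hz => ?_⟩
        · have := ha _ (hb z hz)
          have e : a * (b * z * b⁻¹) * a⁻¹ = a * b * z * (a * b)⁻¹ := by group
          rwa [e] at this
        · have := hb' _ (ha' z hz)
          have e : b⁻¹ * (a⁻¹ * z * a) * b = (a * b)⁻¹ * z * (a * b) := by group
          rwa [e] at this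
      one_mem' := ⟨fun z hz => by simpa using hz, fun z hz => by simpa using hz⟩
      inv_mem' := by
        rintro a ⟨ha, ha'⟩
        exact ⟨fun z hz => by rw [inv_inv]; exact ha' z hz, fun z hz => by rw [inv_inv]; exact ha z hz⟩ }
  have hle : D.borelSubgroup F ≤ K := by
    refine sup_le ((posUnipotent_le_iff hD K).2 fun r hr t => ⟨fun z hz => ?_, fun z hz => ?_⟩) fun h hh =>
      ⟨fun z hz => Om_conj_diag hD T hh hz, fun z hz => ?_⟩
    · exact Om_conj_root hD T hr.1 (G.isPosRoot_iff.1 hr).1 t hz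
    · have := Om_conj_root hD T hr.1 (G.isPosRoot_iff.1 hr).1 (-t) hz
      rwa [← xG_inv, inv_inv] at this
    · have := Om_conj_diag hD T (Subgroup.inv_mem _ hh) hz
      rwa [inv_inv] at this
  exact (hle hb).1 z hz

/-! ### elements of `N` -/

theorem isBM_of_mem (hD : InList D) {n : GL D.Idx F} (hn : n ∈ D.monomialSubgroup F) :
    IsBM (n : Matrix D.Idx D.Idx F) := by
  have h : D.monomialSubgroup F ≤ BM (Fin D.rank) (Fin D.nroots) F := by
    refine sup_le (fun g hg => Cfsg.Agent.ChevalleyStructure.NBlock.isBM_diagonal hD g hg)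
      ((Subgroup.closure_le _).2 ?_)
    rintro g ⟨r, hr, hg⟩
    show IsBM (g : Matrix D.Idx D.Idx F)
    rw [hg]
    exact Cfsg.Agent.ChevalleyStructure.NBlock.isBM_nMat hD F r hr
  exact h hn

theorem entry_perm (hD : InList D) {n : GL D.Idx F} (hn : n ∈ D.monomialSubgroup F) {w : List ℕ}
    (hw : ∀ a ∈ w, a < D.rank) (hact : Acts n w) (s : Fin D.nroots) {i : ℕ} (hi : i < D.rank)
    (hodd : Nat.beq ((D.cartan i s).natAbs % 2) 1 = true) (u : Fin D.nroots) (hu : u.val ≠ wact D w s.val) :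
    (n : Matrix D.Idx D.Idx F) (Sum.inr u) (Sum.inr s) = 0 := by
  have G : Good D := Cfsg.Agent.ChevalleyStructure.RootComb.good_of_mem hD
  obtain ⟨h1, h2, -⟩ := isBM_of_mem hD hn
  have h3 := Subgroup.mem_map_of_mem (MulAut.conj n).toMonoidHom (xG_mem_rootSubgroup (F := F) hD s.val 1)
  rw [hact s.val s.isLt, mem_rootSubgroup_iff hD] at h3
  obtain ⟨c, hc⟩ := h3
  have hws := wact_lt G hw s.isLt
  have h4 : n * xG hD s.val 1 = xG hD (wact D w s.val) c * n := by
    rw [← hc]
    show n * xG hD s.val 1 = n * xG hD s.val 1 * n⁻¹ * n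
    group
  have hL : ((n : Matrix D.Idx D.Idx F) * D.x F s.val 1) (Sum.inr u) (Sum.inl ⟨i, hi⟩) =
      - (n : Matrix D.Idx D.Idx F) (Sum.inr u) (Sum.inr s) := by
    rw [Matrix.mul_apply, x_of_lt s.isLt]
    simp only [xMat_inl, mul_sub, Finset.sum_sub_distrib]
    have e1 : ∑ x : D.Idx, (n : Matrix D.Idx D.Idx F) (Sum.inr u) x * (if x = Sum.inl (⟨i, hi⟩ : Fin D.rank) then 1 else 0) =
        (n : Matrix D.Idx D.Idx F) (Sum.inr u) (Sum.inl ⟨i, hi⟩) := by simp
    have e2 : ((Cfsg.Agent.ChevalleyStructure.Columns.car D i s.val : ℤ) : F) = 1 := cast_of_odd hodd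
    rw [e1, h1, zero_sub]
    congr 1
    simp only [e2, one_mul]
    exact sum_mul_dl' _ s.isLt
  have hR : (D.x F (wact D w s.val) c * (n : Matrix D.Idx D.Idx F)) (Sum.inr u) (Sum.inl ⟨i, hi⟩) = 0 := by
    rw [Matrix.mul_apply, Fintype.sum_sum_type, x_of_lt hws]
    have e1 : ∀ x : Fin D.nroots, D.xMat F ⟨wact D w s.val, hws⟩ c (Sum.inr u) (Sum.inr x) *
        (n : Matrix D.Idx D.Idx F) (Sum.inr x) (Sum.inl ⟨i, hi⟩) = 0 := fun x => by rw [h1, mul_zero]
    have e2 : ∀ x : Fin D.rank, D.xMat F ⟨wact D w s.val, hws⟩ c (Sum.inr u) (Sum.inl x) *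
        (n : Matrix D.Idx D.Idx F) (Sum.inl x) (Sum.inl ⟨i, hi⟩) = 0 := fun x => by
      rw [xMat_inl, if_neg (by simp), dl_inr, if_neg hu, mul_zero, sub_zero, zero_mul]
    simp only [e1, e2, Finset.sum_const_zero, add_zero]
  have h5 : (n : Matrix D.Idx D.Idx F) * D.x F s.val 1 = D.x F (wact D w s.val) c * (n : Matrix D.Idx D.Idx F) := by
    have := congrArg (fun g : GL D.Idx F => (g : Matrix D.Idx D.Idx F)) h4
    simpa only [Units.val_mul, coe_xG] using this
  rw [← h5, hL] at hR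
  exact neg_eq_zero.1 hR

/-- if `n z = z' n` with `z, z' ∈ Ω`, then `w α ∈ A ++ S'` for all `α ∈ A`. -/
theorem wact_mem (hD : InList D) (T : Dat2 D A E S' J Vl Ml τ wt inv bm) {n z z' : GL D.Idx F}
    (hn : n ∈ D.monomialSubgroup F) {w : List ℕ} (hw : ∀ a ∈ w, a < D.rank) (hact : Acts n w)
    (hz : Om hD A S' z) (hz' : Om hD A S' z') (e : n * z = z' * n) {α : ℕ} (hα : α ∈ A) :
    wact D w α ∈ A ++ S' := by
  have G : Good D := Cfsg.Agent.ChevalleyStructure.RootComb.good_of_mem hD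
  by_contra hcon
  have hαlt := T.lt α (List.mem_append_left _ hα)
  have hws := wact_lt G hw hαlt
  obtain ⟨h1, h2, -⟩ := isBM_of_mem hD hn
  obtain ⟨i, hi⟩ := Om_entry_ne hD T hz (u := ⟨α, hαlt⟩) hα
  have h5 : (n : Matrix D.Idx D.Idx F) * (z : Matrix D.Idx D.Idx F) =
      (z' : Matrix D.Idx D.Idx F) * (n : Matrix D.Idx D.Idx F) := by
    have := congrArg (fun g : GL D.Idx F => (g : Matrix D.Idx D.Idx F)) e
    simpa only [Units.val_mul] using this
  have hR : ((z' : Matrix D.Idx D.Idx F) * (n : Matrix D.Idx D.Idx F)) (Sum.inr ⟨wact D w α, hws⟩) (Sum.inl i) = 0 := by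
    rw [Matrix.mul_apply, Fintype.sum_sum_type]
    have e1 : ∀ x : Fin D.nroots, (z' : Matrix D.Idx D.Idx F) (Sum.inr ⟨wact D w α, hws⟩) (Sum.inr x) *
        (n : Matrix D.Idx D.Idx F) (Sum.inr x) (Sum.inl i) = 0 := fun x => by rw [h1, mul_zero]
    have e2 : ∀ x : Fin D.rank, (z' : Matrix D.Idx D.Idx F) (Sum.inr ⟨wact D w α, hws⟩) (Sum.inl x) *
        (n : Matrix D.Idx D.Idx F) (Sum.inl x) (Sum.inl i) = 0 := fun x => by
      rw [Om_entry_zero hD T hz' (u := ⟨wact D w α, hws⟩) hcon, zero_mul]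
    simp only [e1, e2, Finset.sum_const_zero, add_zero]
  have hL : ((n : Matrix D.Idx D.Idx F) * (z : Matrix D.Idx D.Idx F)) (Sum.inr ⟨wact D w α, hws⟩) (Sum.inl i) =
      (n : Matrix D.Idx D.Idx F) (Sum.inr ⟨wact D w α, hws⟩) (Sum.inr ⟨α, hαlt⟩) *
        (z : Matrix D.Idx D.Idx F) (Sum.inr ⟨α, hαlt⟩) (Sum.inl i) := by
    rw [Matrix.mul_apply, Fintype.sum_sum_type]
    have e1 : ∀ x : Fin D.rank, (n : Matrix D.Idx D.Idx F) (Sum.inr ⟨wact D w α, hws⟩) (Sum.inl x) *
        (z : Matrix D.Idx D.Idx F) (Sum.inl x) (Sum.inl i) = 0 := fun x => by rw [h1, zero_mul]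
    simp only [e1, Finset.sum_const_zero, zero_add]
    refine Finset.sum_eq_single _ (fun s _ hs => ?_) (fun h => absurd (Finset.mem_univ _) h)
    by_cases hsm : s.val ∈ A ++ S'
    · obtain ⟨k, hk, hodd⟩ := T.odd s.val hsm
      rw [entry_perm hD hn hw hact s hk hodd, zero_mul]
      intro e'
      exact hs (Fin.ext (wact_inj G hw hαlt s.isLt e').symm)
    · rw [Om_entry_zero hD T hz hsm, mul_zero]
  rw [← h5, hL, mul_eq_zero] at hR
  rcases hR with hR | hR
  · -- the column `α` of `n` vanishes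
    obtain ⟨k, hk, hodd⟩ := T.odd α (List.mem_append_left _ hα)
    have hcol : ∀ x : D.Idx, (n : Matrix D.Idx D.Idx F) x (Sum.inr ⟨α, hαlt⟩) = 0 := by
      rintro (x | x)
      · exact h2 x _
      · by_cases hx : x.val = wact D w α
        · have : x = ⟨wact D w α, hws⟩ := Fin.ext hx
          rw [this, hR]
        · exact entry_perm hD hn hw hact ⟨α, hαlt⟩ hk hodd x hx
    have h6 : ((n⁻¹ : GL D.Idx F) : Matrix D.Idx D.Idx F) * (n : Matrix D.Idx D.Idx F) = 1 := by
      rw [← Units.val_mul, inv_mul_cancel, Units.val_one]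
    have h7 := congrFun (congrFun h6 (Sum.inr ⟨α, hαlt⟩)) (Sum.inr ⟨α, hαlt⟩)
    rw [Matrix.mul_apply, Matrix.one_apply_eq] at h7
    simp only [hcol, mul_zero, Finset.sum_const_zero] at h7
    exact zero_ne_one h7
  · exact hi hR

theorem inv_wact (T : Dat2 D A E S' J Vl Ml τ wt inv bm) (G : Good D) : ∀ (w : List ℕ) (_ : ∀ a ∈ w, a < D.rank) (s : ℕ),
    s < D.nroots → inv (wact D w s) = inv s
  | [], _, _, _ => rfl
  | i :: w, hw, s, hs => by
    have hw' : ∀ a ∈ w, a < D.rank := fun a ha => hw a (List.mem_cons_of_mem _ ha)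
    rw [wact_cons, T.hinv i (hw i List.mem_cons_self) _ (wact_lt G hw' hs), inv_wact T G w hw' s hs]

theorem wact_fix (hD : InList D) (T : Dat2 D A E S' J Vl Ml τ wt inv bm) {w : List ℕ} (hw : ∀ a ∈ w, a < D.rank)
    (h : ∀ α ∈ A, wact D w α ∈ A ++ S') : ∀ α ∈ A, wact D w α = α := by
  have G : Good D := Cfsg.Agent.ChevalleyStructure.RootComb.good_of_mem hD
  intro α hα
  obtain ⟨β, hβ, hp⟩ := T.pair α hα
  have hαlt := T.lt α (List.mem_append_left _ hα)
  have hβlt := T.lt β (List.mem_append_left _ hβ)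
  exact hp _ (h α hα) _ (h β hβ) (inv_wact T G w hw α hαlt) (inv_wact T G w hw β hβlt)
    (car_wact G hw hαlt hβlt) (car_wact G hw hβlt hαlt)

/-- the parabolic subgroup `P_J` -/
def PJ (F : Type u) [Field F] (D : ChevalleyDatum) (J : List ℕ) : Subgroup (GL D.Idx F) :=
  D.parabolicSubgroup F {j | j ∈ J}

theorem mem_PJ_of_fix (hD : InList D) (T : Dat2 D A E S' J Vl Ml τ wt inv bm) (w : List ℕ) (hw : ∀ a ∈ w, a < D.rank) :
    (∀ α ∈ A, wact D w α = α) → ∀ n ∈ D.monomialSubgroup F, Acts n w → n ∈ PJ F D J := by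
  have G : Good D := Cfsg.Agent.ChevalleyStructure.RootComb.good_of_mem hD
  refine inv_induction G (P := fun w => (∀ α ∈ A, wact D w α = α) → ∀ n ∈ D.monomialSubgroup F, Acts n w →
    n ∈ PJ F D J) ?_ ?_ w hw
  · intro w hw hpos _ n hn hact
    have hnB : n ∈ D.borelSubgroup F := by
      refine Cfsg.Agent.H92.ChevCent.mem_borel_of_conj hD hn fun x hx => ?_
      have hle : D.posUnipotent F ≤ (D.borelSubgroup F).comap (MulAut.conj n).toMonoidHom := by
        refine (posUnipotent_le_iff hD _).2 fun r hr t => ?_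
        have h1 := Subgroup.mem_map_of_mem (MulAut.conj n).toMonoidHom (xG_mem_rootSubgroup (F := F) hD r t)
        rw [hact r hr.1] at h1
        exact (le_sup_left : D.posUnipotent F ≤ _) (rootSubgroup_le_pos hD (hpos r hr) h1)
      exact hle hx
    exact (le_sup_left : D.borelSubgroup F ≤ _) hnB
  · intro w i hw hi hneg ih hfix n hn hact
    have hiJ : i ∈ J := by
      by_contra hiJ
      have h1 := T.wtJ i hi hiJ
      have h2 : fw D A wt (D.simple i) = fw D A wt (wact D w (D.simple i)) := by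
        unfold fw
        congr 1
        refine List.map_congr_left fun α hα => ?_
        have h3 := car_wact G hw (T.lt α (List.mem_append_left _ hα)) (G.simple_lt hi)
        rw [hfix α hα] at h3
        rw [h3]
      have h3 := T.wtneg _ (G.isNegRoot_iff.1 hneg)
      omega
    have hnG : nG hD (D.simple i) (1 : F) ∈ PJ F D J :=
      (le_sup_right : _ ≤ PJ F D J) (Subgroup.subset_closure ⟨i, hiJ, hi, coe_nG hD _ 1⟩)
    have h4 : n * nG hD (D.simple i) 1 ∈ PJ F D J := by
      refine ih ?_ _ (Subgroup.mul_mem _ hn (nG_one_mem_monomial hD (G.simple_lt hi)))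
        (Acts.mul G hact (acts_nG_simple hD hi) (by simpa using hi))
      intro α hα
      rw [wact_append, wact_cons, wact_nil, (G.reflect_eq_iff hi (T.lt α (List.mem_append_left _ hα))).2
        ((T.Jfix i hiJ).2 α hα)]
      exact hfix α hα
    have h5 := Subgroup.mul_mem _ h4 (Subgroup.inv_mem _ hnG)
    rwa [mul_inv_cancel_right] at h5

/-- the element `t` -/
def tA (F : Type u) [Field F] (hD : InList D) (A : List ℕ) : GL D.Idx F := PA hD A (fun _ => (1 : F))

theorem Om_tA (hD : InList D) (A S' : List ℕ) : Om hD A S' (tA F hD A) :=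
  ⟨fun _ => 1, fun _ _ => one_ne_zero, 1, Subgroup.one_mem _, by rw [mul_one]; rfl⟩

/-- **Step 1**: `C_G(t) ≤ P_J`. -/
theorem cent_le_PJ (hD : InList D) (T : Dat2 D A E S' J Vl Ml τ wt inv bm) {g : GL D.Idx F} (hg : g ∈ D.group F)
    (hc : g * tA F hD A = tA F hD A * g) : g ∈ PJ F D J := by
  obtain ⟨b, hb, n, hn, b', hb', rfl⟩ := Cfsg.Agent.S1100.exists_bruhat hD hg
  set t : GL D.Idx F := tA F hD A with ht
  have h1 : Om hD A S' (b' * t * b'⁻¹) := Om_conj_borel hD T hb' (Om_tA hD A S')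
  have h2 : Om hD A S' (b⁻¹ * t * b) := by
    have := Om_conj_borel hD T (Subgroup.inv_mem _ hb) (Om_tA (F := F) hD A S')
    rwa [inv_inv] at this
  obtain ⟨w, hw, hact⟩ := exists_acts hD hn
  have h3 : n * (b' * t * b'⁻¹) = (b⁻¹ * t * b) * n := by
    have : (b * n * b') * t * b'⁻¹ = t * (b * n * b') * b'⁻¹ := by rw [hc]
    calc n * (b' * t * b'⁻¹) = b⁻¹ * ((b * n * b') * t * b'⁻¹) := by group
      _ = b⁻¹ * (t * (b * n * b') * b'⁻¹) := by rw [this]
      _ = _ := by group
  have h4 := mem_PJ_of_fix hD T w hw (wact_fix hD T hw fun α hα => wact_mem hD T hn hw hact h1 h2 h3 hα) n hn hact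
  exact Subgroup.mul_mem _ (Subgroup.mul_mem _ ((le_sup_left : D.borelSubgroup F ≤ _) hb) h4)
    ((le_sup_left : D.borelSubgroup F ≤ _) hb')

/-! ### Step 2: inside `P_J` -/

theorem mem_sup_left_of_normalizer {G : Type*} [Group G] {K L : Subgroup G}
    (h : L ≤ Subgroup.normalizer (K : Set G)) {g : G} (hg : g ∈ K ⊔ L) : ∃ l ∈ L, ∃ k ∈ K, g = l * k := by
  have h3 : ((K ⊔ L : Subgroup G) : Set G) = (K : Set G) * (L : Set G) :=
    Subgroup.coe_mul_of_right_le_normalizer_left _ _ h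
  have h4 : g⁻¹ ∈ ((K ⊔ L : Subgroup G) : Set G) := Subgroup.inv_mem _ hg
  rw [h3] at h4
  obtain ⟨k, hk, l, hl, e⟩ := h4
  refine ⟨l⁻¹, Subgroup.inv_mem _ hl, k⁻¹, Subgroup.inv_mem _ hk, ?_⟩
  have e' : k * l = g⁻¹ := e
  rw [← mul_inv_rev, e', inv_inv]

/-- the group generated by the `X_r`, `r ∈ Φ_J` -/
def LL (F : Type u) [Field F] (D : ChevalleyDatum) (J : List ℕ) : Subgroup (GL D.Idx F) :=
  Subgroup.closure {g : GL D.Idx F | ∃ (r : ℕ) (t : F), D.InRootSub {j | j ∈ J} r ∧
    (g : Matrix D.Idx D.Idx F) = D.x F r t}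

theorem diag_norm_LL (hD : InList D) (J : List ℕ) :
    D.diagonalSubgroup F ≤ Subgroup.normalizer (LL F D J : Set (GL D.Idx F)) := by
  have key : ∀ h ∈ D.diagonalSubgroup F, ∀ x ∈ LL F D J, h * x * h⁻¹ ∈ LL F D J := by
    intro h hh x hx
    obtain ⟨χ, -, hχ⟩ := diag_conj_root hD hh
    have hle : LL F D J ≤ (LL F D J).comap (MulAut.conj h).toMonoidHom := by
      refine (Subgroup.closure_le _).2 ?_
      rintro g ⟨r, t, hr, hg⟩
      rw [(eq_xG_iff hD g r t).2 hg]
      show h * xG hD r t * h⁻¹ ∈ LL F D J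
      rw [hχ r hr.1]
      exact Subgroup.subset_closure ⟨r, _, hr, rfl⟩
    exact hle hx
  intro h hh
  rw [Subgroup.mem_normalizer_iff]
  intro x
  constructor
  · exact key h hh x
  · intro hx
    have := key h⁻¹ (Subgroup.inv_mem _ hh) _ hx
    have e : h⁻¹ * (h * x * h⁻¹) * h⁻¹⁻¹ = x := by group
    rwa [e] at this

theorem PJ_decomp (hD : InList D) (J : List ℕ) {g : GL D.Idx F} (hg : g ∈ PJ F D J) :
    ∃ m ∈ LL F D J, ∃ h ∈ D.diagonalSubgroup F, ∃ v ∈ D.unipotentRadical F {j | j ∈ J}, g = m * h * v := by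
  obtain ⟨h1, h2, -⟩ := Cfsg.Agent.S1048.result (F := F) D hD {j | j ∈ J}
  unfold PJ at hg
  rw [← h2] at hg
  obtain ⟨l, hl, v, hv, rfl⟩ := mem_sup_left_of_normalizer (le_trans (le_trans le_sup_right h2.le) h1) hg
  have hl' : l ∈ LL F D J ⊔ D.diagonalSubgroup F := by
    rw [sup_comm]
    exact hl
  obtain ⟨h, hh, m, hm, e⟩ := mem_sup_left_of_normalizer (diag_norm_LL hD J) hl'
  refine ⟨h * m * h⁻¹, (Subgroup.mem_normalizer_iff.1 (diag_norm_LL hD J hh) m).1 hm, h, hh, v, hv, ?_⟩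
  rw [e]
  group

/-- moving a root element to its place in the ordered product over `E`. -/
theorem insert_root (hD : InList D) {Vl : List ℕ} (hV : ∀ r ∈ Vl, r < D.nroots) :
    ∀ (E : List ℕ) (_ : E.Nodup) (_ : ∀ s ∈ E, s < D.nroots) (_ : ∀ s ∈ E, ∀ r ∈ Vl, okB D Vl s r = true)
      (_ : ∀ s ∈ E, ∀ r ∈ E, okB D Vl s r = true) (s : ℕ) (_ : s ∈ E) (d : F) (c : ℕ → F),
      ∃ k ∈ XS F D Vl, ∃ c' : ℕ → F, xG hD s d * PA hD E c = k * PA hD E c'
  | [], _, _, _, _, s, hs, _, _ => absurd hs List.not_mem_nil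
  | e :: E, hn, hE, hEV, hEE, s, hs, d, c => by
    rw [List.nodup_cons] at hn
    by_cases hse : s = e
    · subst hse
      refine ⟨1, Subgroup.one_mem _, fun x => if x = s then c s + d else c x, ?_⟩
      rw [PA_cons, PA_cons, one_mul, if_pos rfl, ← mul_assoc, xG_add, add_comm d]
      congr 1
      unfold PA
      congr 1
      refine List.map_congr_left fun x hx => ?_
      have hxs : x ≠ s := by
        rintro rfl
        exact hn.1 hx
      show xG hD x (c x) = xG hD x (if x = s then c s + d else c x)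
      rw [if_neg hxs]
    · have hs' : s ∈ E := by
        rcases List.mem_cons.1 hs with h | h
        · exact absurd h hse
        · exact h
      have hsl := hE s hs
      have hel := hE e List.mem_cons_self
      obtain ⟨k2, hk2, c', e2⟩ := insert_root hD hV E hn.2 (fun x hx => hE x (List.mem_cons_of_mem _ hx))
        (fun x hx => hEV x (List.mem_cons_of_mem _ hx))
        (fun x hx y hy => hEE x (List.mem_cons_of_mem _ hx) y (List.mem_cons_of_mem _ hy)) s hs' d c
      obtain ⟨W, hW, e1⟩ := conj_ok' hD hsl hel (hEE s hs e List.mem_cons_self) d (c e)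
      -- `x_s x_e = x_e W x_s`
      have e3 : xG hD s d * xG hD e (c e) = xG hD e (c e) * W * xG hD s d := by
        rw [← e1]
        group
      have h1 : xG hD e (c e) * W * (xG hD e (c e))⁻¹ ∈ XS F D Vl :=
        conj_XS hD hel hV (hEV e List.mem_cons_self) (c e) hW
      have h2 : xG hD e (c e) * k2 * (xG hD e (c e))⁻¹ ∈ XS F D Vl :=
        conj_XS hD hel hV (hEV e List.mem_cons_self) (c e) hk2
      refine ⟨_, Subgroup.mul_mem _ h1 h2, fun x => if x = e then c e else c' x, ?_⟩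
      have e4 : PA hD (e :: E) (fun x => if x = e then c e else c' x) = xG hD e (c e) * PA hD E c' := by
        rw [PA_cons, if_pos rfl]
        congr 1
        unfold PA
        congr 1
        refine List.map_congr_left fun x hx => ?_
        have hxe : x ≠ e := by
          rintro rfl
          exact hn.1 hx
        show xG hD x (if x = e then c e else c' x) = xG hD x (c' x)
        rw [if_neg hxe]
      rw [e4, PA_cons, ← mul_assoc, e3, mul_assoc, e2]
      group

/-- `U_J = ⟨X_r : r ∈ Vl⟩ · ∏_{s ∈ E} X_s`. -/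
theorem radical_decomp (hD : InList D) (T : Dat2 D A E S' J Vl Ml τ wt inv bm) {v : GL D.Idx F}
    (hv : v ∈ D.unipotentRadical F {j | j ∈ J}) : ∃ k ∈ XS F D Vl, ∃ c : ℕ → F, v = k * PA hD E c := by
  have G : Good D := Cfsg.Agent.ChevalleyStructure.RootComb.good_of_mem hD
  have hV : ∀ r ∈ Vl, r < D.nroots := fun r hr => (T.Vlt r hr).1
  unfold ChevalleyDatum.unipotentRadical at hv
  have key : ∀ (r : ℕ) (t : F), D.IsPosRoot r → ¬ D.InRootSub {j | j ∈ J} r → ∀ (y : GL D.Idx F),
      (∃ k ∈ XS F D Vl, ∃ c : ℕ → F, y = k * PA hD E c) → ∃ k ∈ XS F D Vl, ∃ c : ℕ → F, xG hD r t * y = k * PA hD E c := by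
    rintro r t hr hrJ y ⟨k, hk, c, rfl⟩
    have h1 : ∃ i < D.rank, i ∉ J ∧ co D r i ≠ 0 := by
      by_contra hcon
      push Not at hcon
      exact hrJ ⟨hr.1, fun i hi hiJ => hcon i hi hiJ⟩
    rcases T.Vpos r hr.1 (G.isPosRoot_iff.1 hr).1 h1 with h2 | h2
    · exact ⟨xG hD r t * k, Subgroup.mul_mem _ (xG_mem_XS hD h2 t) hk, c, by rw [mul_assoc]⟩
    · obtain ⟨k2, hk2, c', e2⟩ := insert_root hD hV E T.Enodup T.Elt T.EV T.EE r h2 t c
      have h3 := conj_XS hD hr.1 hV (T.EV r h2) t hk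
      refine ⟨_, Subgroup.mul_mem _ h3 hk2, c', ?_⟩
      calc xG hD r t * (k * PA hD E c) = (xG hD r t * k * (xG hD r t)⁻¹) * (xG hD r t * PA hD E c) := by group
        _ = _ := by rw [e2]; group
  have hPA0 : PA hD E (fun _ => (0 : F)) = 1 := by
    unfold PA
    apply List.prod_eq_one
    intro x hx
    obtain ⟨r, -, rfl⟩ := List.mem_map.1 hx
    exact xG_zero hD r
  induction hv using Subgroup.closure_induction_left with
  | one => exact ⟨1, Subgroup.one_mem _, fun _ => 0, by rw [hPA0, one_mul]⟩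
  | mul_left x hx y hy ih =>
    obtain ⟨r, t, hr, hrJ, hx⟩ := hx
    rw [(eq_xG_iff hD x r t).2 hx]
    exact key r t hr hrJ y ih
  | inv_mul_cancel x hx y hy ih =>
    obtain ⟨r, t, hr, hrJ, hx⟩ := hx
    rw [(eq_xG_iff hD x r t).2 hx, xG_inv]
    exact key r (-t) hr hrJ y ih

/-- `x_s(c) x_α(1) x_s(c)⁻¹ = x_α(1) x_u(c)` -/
theorem relC_conj (hD : InList D) {r s u : ℕ} (hr : r < D.nroots) (hs : s < D.nroots) (h : relC D r s u = true)
    (hu : comB D r u = true) (c : F) :
    xG hD r c * xG hD s 1 * (xG hD r c)⁻¹ = xG hD s 1 * xG hD u c := by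
  simp only [relC, Bool.and_eq_true, Bool.not_eq_true'] at h
  obtain ⟨⟨h3, h4⟩, h5⟩ := h
  have hrs : s ≠ r := Nat.ne_of_beq_eq_false h3
  have hn : s ≠ D.neg r := Nat.ne_of_beq_eq_false h4
  have h6 := Cfsg.Agent.S1025.result (F := F) D hD r s hr hs hrs hn c 1
  have h7 : D.wordMat F (D.commWord F r s c (1 : F)) = D.x F u c := by
    split at h5
    · next p hp =>
      simp only [Bool.and_eq_true] at h5
      have hu : p.1 = u := Nat.eq_of_beq_eq_true h5.1.1.1
      have hi : p.2.2.1 = 1 := Nat.eq_of_beq_eq_true h5.1.2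
      have hj : p.2.2.2 = 1 := Nat.eq_of_beq_eq_true h5.2
      unfold ChevalleyDatum.commWord
      rw [hp, List.map_cons, List.map_nil, wordMat_cons, wordMat_nil, mul_one, cast_of_odd h5.1.1.2, hi, hj, one_pow,
        pow_one, mul_one, one_mul, hu, CharTwo.neg_eq]
    · exact absurd h5 (by simp)
  have h8 : xG hD s (1 : F) * xG hD r c = xG hD r c * xG hD s 1 * xG hD u c := by
    apply Units.ext
    rw [h7] at h6
    simpa only [Units.val_mul, coe_xG] using h6
  have h9 : xG hD u c * xG hD r c = xG hD r c * xG hD u c := xG_comm hD hu c c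
  have h10 : xG hD r c * xG hD s 1 = xG hD s (1 : F) * xG hD r c * xG hD u c := by
    rw [h8, mul_assoc, xG_sq, mul_one]
  rw [h10, mul_assoc (xG hD s 1), ← h9]
  group

/-- `x_s(c) t x_s(c)⁻¹ = t x_{τ s}(c)` -/
theorem conj_t (hD : InList D) (T : Dat2 D A E S' J Vl Ml τ wt inv bm) {s : ℕ} (hs : s ∈ E) (c : F) :
    xG hD s c * tA F hD A * (xG hD s c)⁻¹ = tA F hD A * xG hD (τ s) c := by
  obtain ⟨α, hα, hrel, hcom⟩ := T.Et s hs
  have hAnd : A.Nodup := List.Nodup.of_append_left T.nodup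
  have hcomA : ∀ B : List ℕ, (∀ β ∈ B, β ∈ A ∧ β ≠ α) →
      xG hD s c * PA hD B (fun _ => (1 : F)) * (xG hD s c)⁻¹ = PA hD B (fun _ => (1 : F)) := by
    intro B
    induction B with
    | nil => intro _; rw [PA_nil]; group
    | cons β B ih =>
      intro hB
      have h1 := ih fun x hx => hB x (List.mem_cons_of_mem _ hx)
      have h2 : xG hD β (1 : F) * xG hD s c = xG hD s c * xG hD β 1 :=
        xG_comm hD (hcom β (hB β List.mem_cons_self).1 (hB β List.mem_cons_self).2) c 1
      rw [PA_cons]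
      calc xG hD s c * (xG hD β 1 * PA hD B fun _ => 1) * (xG hD s c)⁻¹ =
          (xG hD s c * xG hD β 1) * (xG hD s c)⁻¹ * (xG hD s c * PA hD B (fun _ => (1 : F)) * (xG hD s c)⁻¹) := by group
        _ = _ := by rw [h1, ← h2]; group
  have hτA : ∀ B : List ℕ, (∀ β ∈ B, β ∈ A ∧ β ≠ α) →
      xG hD (τ s) c * PA hD B (fun _ => (1 : F)) = PA hD B (fun _ => (1 : F)) * xG hD (τ s) c := by
    intro B
    induction B with
    | nil => intro _; rw [PA_nil, one_mul, mul_one]
    | cons β B ih =>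
      intro hB
      have h1 := ih fun x hx => hB x (List.mem_cons_of_mem _ hx)
      have h2 : xG hD (τ s) c * xG hD β (1 : F) = xG hD β 1 * xG hD (τ s) c := by
        rcases T.EA s hs β (List.mem_append_left _ (hB β List.mem_cons_self).1) with h | h
        · exact (xG_comm hD h c 1).symm
        · exact absurd (h ▸ T.Eτ s hs) (not_mem_of_nodup T (hB β List.mem_cons_self).1)
      rw [PA_cons, ← mul_assoc, h2, mul_assoc, h1, mul_assoc]
  have main : ∀ B : List ℕ, B.Nodup → (∀ β ∈ B, β ∈ A) → α ∈ B →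
      xG hD s c * PA hD B (fun _ => (1 : F)) * (xG hD s c)⁻¹ = PA hD B (fun _ => (1 : F)) * xG hD (τ s) c := by
    intro B
    induction B with
    | nil => intro _ _ h; exact absurd h List.not_mem_nil
    | cons β B ih =>
      intro hn hB hαB
      rw [List.nodup_cons] at hn
      rw [PA_cons]
      by_cases hβ : β = α
      · have h1 : ∀ γ ∈ B, γ ∈ A ∧ γ ≠ α := fun γ hγ =>
          ⟨hB γ (List.mem_cons_of_mem _ hγ), fun e => hn.1 (by rw [hβ, ← e]; exact hγ)⟩
        have h2 := relC_conj (F := F) hD (T.Elt s hs) (T.lt α (List.mem_append_left _ hα)) hrel (T.EY s hs s hs) c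
        rw [hβ]
        calc xG hD s c * (xG hD α 1 * PA hD B fun _ => 1) * (xG hD s c)⁻¹ =
            (xG hD s c * xG hD α 1 * (xG hD s c)⁻¹) * (xG hD s c * PA hD B (fun _ => (1 : F)) * (xG hD s c)⁻¹) := by group
          _ = _ := by rw [hcomA B h1, h2, mul_assoc, hτA B h1, mul_assoc]
      · have hαB' : α ∈ B := by
          rcases List.mem_cons.1 hαB with h | h
          · exact absurd h.symm hβ
          · exact h
        have h1 := ih hn.2 (fun γ hγ => hB γ (List.mem_cons_of_mem _ hγ)) hαB'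
        have h2 : xG hD β (1 : F) * xG hD s c = xG hD s c * xG hD β 1 :=
          xG_comm hD (hcom β (hB β List.mem_cons_self) hβ) c 1
        calc xG hD s c * (xG hD β 1 * PA hD B fun _ => 1) * (xG hD s c)⁻¹ =
            (xG hD s c * xG hD β 1) * (xG hD s c)⁻¹ * (xG hD s c * PA hD B (fun _ => (1 : F)) * (xG hD s c)⁻¹) := by group
          _ = _ := by rw [h1, ← h2]; group
  exact main A hAnd (fun _ h => h) hα

/-- `x_E(c) t x_E(c)⁻¹ = t ∏ x_{τ s}(c_s)` -/
theorem conj_tE (hD : InList D) (T : Dat2 D A E S' J Vl Ml τ wt inv bm) (c : ℕ → F) : ∀ (B : List ℕ), (∀ s ∈ B, s ∈ E) →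
    PA hD B c * tA F hD A * (PA hD B c)⁻¹ = tA F hD A * (B.map fun s => xG hD (τ s) (c s)).prod
  | [], _ => by rw [PA_nil]; simp
  | s :: B, hB => by
    have ih := conj_tE hD T c B fun x hx => hB x (List.mem_cons_of_mem _ hx)
    have hs := hB s List.mem_cons_self
    have h1 : ∀ C : List ℕ, (∀ x ∈ C, x ∈ E) → xG hD s (c s) * (C.map fun s => xG hD (τ s) (c s)).prod =
        (C.map fun s => xG hD (τ s) (c s)).prod * xG hD s (c s) := by
      intro C
      induction C with
      | nil => intro _; simp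
      | cons x C ih =>
        intro hC
        have h2 : xG hD (τ x) (c x) * xG hD s (c s) = xG hD s (c s) * xG hD (τ x) (c x) :=
          xG_comm hD (T.EY s hs x (hC x List.mem_cons_self)) _ _
        rw [List.map_cons, List.prod_cons, ← mul_assoc, ← h2, mul_assoc, ih fun y hy => hC y (List.mem_cons_of_mem _ hy),
          mul_assoc]
    have h3 := h1 B fun x hx => hB x (List.mem_cons_of_mem _ hx)
    rw [PA_cons, List.map_cons, List.prod_cons]
    calc xG hD s (c s) * PA hD B c * tA F hD A * (xG hD s (c s) * PA hD B c)⁻¹ =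
        xG hD s (c s) * (PA hD B c * tA F hD A * (PA hD B c)⁻¹) * (xG hD s (c s))⁻¹ := by group
      _ = xG hD s (c s) * tA F hD A * (xG hD s (c s))⁻¹ *
          (xG hD s (c s) * (B.map fun s => xG hD (τ s) (c s)).prod) * (xG hD s (c s))⁻¹ := by rw [ih]; group
      _ = _ := by rw [h3, conj_t hD T hs]; group

/-! ### Step 3: the diagonal part -/

theorem XS_Ml_le_cent (hD : InList D) (T : Dat2 D A E S' J Vl Ml τ wt inv bm) {y : GL D.Idx F} (hy : y ∈ XS F D Ml) :
    y * tA F hD A = tA F hD A * y := by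
  have key : ∀ r ∈ Ml, ∀ c : F, ∀ B : List ℕ, (∀ β ∈ B, β ∈ A) →
      xG hD r c * PA hD B (fun _ => (1 : F)) = PA hD B (fun _ => (1 : F)) * xG hD r c := by
    intro r hr c B
    induction B with
    | nil => intro _; rw [PA_nil, one_mul, mul_one]
    | cons β B ih =>
      intro hB
      have h1 := ih fun x hx => hB x (List.mem_cons_of_mem _ hx)
      have h2 : xG hD r c * xG hD β (1 : F) = xG hD β 1 * xG hD r c := by
        rcases (T.Mlt r hr).2 β (hB β List.mem_cons_self) with h | h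
        · rw [h, xG_add, xG_add, add_comm]
        · exact (xG_comm hD h c 1).symm
      rw [PA_cons, ← mul_assoc, h2, mul_assoc, h1, mul_assoc]
  have hle : XS F D Ml ≤ Subgroup.centralizer {tA F hD A} := by
    refine (XS_le_iff hD _).2 fun s hs c => ?_
    rw [Subgroup.mem_centralizer_iff]
    intro h hh
    rw [Set.mem_singleton_iff.1 hh]
    exact (key s hs c A fun _ h => h).symm
  have h1 := Subgroup.mem_centralizer_iff.1 (hle hy) _ (Set.mem_singleton _)
  exact h1.symm

theorem XS_le_group (hD : InList D) {S : List ℕ} (hS : ∀ s ∈ S, s < D.nroots) : XS F D S ≤ D.group F :=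
  (XS_le_iff hD _).2 fun s _ c => xG_mem_group hD s c

theorem LL_le (hD : InList D) (T : Dat2 D A E S' J Vl Ml τ wt inv bm) : LL F D J ≤ XS F D Ml := by
  refine (Subgroup.closure_le _).2 ?_
  rintro g ⟨r, t, hr, hg⟩
  exact Subgroup.subset_closure ⟨r, T.MJ r hr.1 (fun i hi hiJ => hr.2 i hi hiJ), t, hg⟩

theorem XS_mono (hD : InList D) {S S' : List ℕ} (h : ∀ s ∈ S, s ∈ S') : XS F D S ≤ XS F D S' :=
  (XS_le_iff hD _).2 fun s hs c => xG_mem_XS hD (h s hs) c

theorem PA_conj_diag {χ : ℕ → F} (hD : InList D) {h : GL D.Idx F}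
    (hχ : ∀ s < D.nroots, ∀ c : F, h * xG hD s c * h⁻¹ = xG hD s (χ s * c)) (a : ℕ → F) :
    ∀ (A : List ℕ), (∀ α ∈ A, α < D.nroots) → h * PA hD A a * h⁻¹ = PA hD A (fun α => χ α * a α)
  | [], _ => by rw [PA_nil, PA_nil]; group
  | α :: A, hA => by
    have ih := PA_conj_diag hD hχ a A fun x hx => hA x (List.mem_cons_of_mem _ hx)
    rw [PA_cons, PA_cons, ← ih, ← hχ α (hA α List.mem_cons_self)]
    group

/-- if `h x_E(c)` centralises `t` then `c = 0` on `E` and `χ = 1` on `A`. -/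
theorem diag_part (hD : InList D) (T : Dat2 D A E S' J Vl Ml τ wt inv bm) {h : GL D.Idx F} {χ : ℕ → F}
    (hχ0 : ∀ s < D.nroots, χ s ≠ 0) (hχ : ∀ s < D.nroots, ∀ c : F, h * xG hD s c * h⁻¹ = xG hD s (χ s * c))
    (c : ℕ → F) (hc : h * PA hD E c * tA F hD A = tA F hD A * (h * PA hD E c)) :
    (∀ s ∈ E, c s = 0) ∧ ∀ α ∈ A, χ α = 1 := by
  have hAlt : ∀ α ∈ A, α < D.nroots := fun α hα => T.lt α (List.mem_append_left _ hα)
  have hSlt : ∀ s ∈ E, τ s < D.nroots := fun s hs => T.lt _ (List.mem_append_right _ (T.Eτ s hs))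
  have h1 : h * (PA hD E c * tA F hD A * (PA hD E c)⁻¹) * h⁻¹ = tA F hD A := by
    calc h * (PA hD E c * tA F hD A * (PA hD E c)⁻¹) * h⁻¹ =
        (h * PA hD E c * tA F hD A) * (PA hD E c)⁻¹ * h⁻¹ := by group
      _ = tA F hD A * (h * PA hD E c) * (PA hD E c)⁻¹ * h⁻¹ := by rw [hc]
      _ = tA F hD A := by group
  rw [conj_tE hD T c E fun _ h => h] at h1
  set l : List (ℕ × F) := E.map fun s => (τ s, χ (τ s) * c s) with hl
  have h2 : h * (E.map fun s => xG hD (τ s) (c s)).prod * h⁻¹ = wordG hD l := by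
    have : ∀ B : List ℕ, (∀ s ∈ B, s ∈ E) → h * (B.map fun s => xG hD (τ s) (c s)).prod * h⁻¹ =
        wordG hD (B.map fun s => (τ s, χ (τ s) * c s)) := by
      intro B
      induction B with
      | nil => intro _; rw [List.map_nil, List.prod_nil, List.map_nil, wordG_nil]; group
      | cons s B ih =>
        intro hB
        have ih := ih fun x hx => hB x (List.mem_cons_of_mem _ hx)
        rw [List.map_cons, List.prod_cons, List.map_cons, wordG_cons, ← ih,
          ← hχ _ (hSlt s (hB s List.mem_cons_self))]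
        group
    exact this E fun _ h => h
  have h3 : h * tA F hD A * h⁻¹ = PA hD A χ := by
    have := PA_conj_diag hD hχ (fun _ => (1 : F)) A hAlt
    simp only [mul_one] at this
    exact this
  have h4 : PA hD A χ * wordG hD l = PA hD A (fun _ => (1 : F)) * wordG hD [] := by
    rw [wordG_nil, mul_one]
    calc PA hD A χ * wordG hD l = (h * tA F hD A * h⁻¹) * (h * (E.map fun s => xG hD (τ s) (c s)).prod * h⁻¹) := by
          rw [h2, h3]
      _ = h * (tA F hD A * (E.map fun s => xG hD (τ s) (c s)).prod) * h⁻¹ := by group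
      _ = _ := h1
  have hlS : ∀ p ∈ l, p.1 ∈ S' := by
    intro p hp
    rw [hl, List.mem_map] at hp
    obtain ⟨s, hs, rfl⟩ := hp
    exact T.Eτ s hs
  have h5 : ∀ (u : Fin D.nroots) (i : Fin D.rank),
      ((if u.val ∈ A then ((D.cartan i u : ℤ) : F) * χ u else 0) +
        (l.map fun p => ((D.cartan i p.1 : ℤ) : F) * p.2 * dl F D (Sum.inr u) p.1).sum) =
      (if u.val ∈ A then ((D.cartan i u : ℤ) : F) * 1 else 0) := by
    intro u i
    have e1 := entry_word hD T χ l hlS u i
    have e2 := entry_word hD T (fun _ => (1 : F)) [] (fun p hp => absurd hp List.not_mem_nil) u i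
    rw [h4, e2, List.map_nil, List.sum_nil, add_zero] at e1
    exact (neg_injective e1).symm
  constructor
  · intro s hs
    obtain ⟨i, hi, hodd⟩ := T.odd (τ s) (List.mem_append_right _ (T.Eτ s hs))
    have e1 := h5 ⟨τ s, hSlt s hs⟩ ⟨i, hi⟩
    have hnA : τ s ∉ A := fun h => not_mem_of_nodup T h (T.Eτ s hs)
    rw [if_neg hnA, if_neg hnA, zero_add, hl, List.map_map] at e1
    have e2 : (E.map ((fun p : ℕ × F => ((D.cartan i p.1 : ℤ) : F) * p.2 * dl F D (Sum.inr ⟨τ s, hSlt s hs⟩) p.1) ∘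
        fun s => (τ s, χ (τ s) * c s))).sum = χ (τ s) * c s := by
      have : ∀ B : List ℕ, B.Nodup → (∀ x ∈ B, x ∈ E) →
          (B.map ((fun p : ℕ × F => ((D.cartan i p.1 : ℤ) : F) * p.2 * dl F D (Sum.inr ⟨τ s, hSlt s hs⟩) p.1) ∘
          fun s => (τ s, χ (τ s) * c s))).sum = if s ∈ B then χ (τ s) * c s else 0 := by
        intro B
        induction B with
        | nil => intro _ _; simp
        | cons x B ih =>
          intro hn hB
          rw [List.nodup_cons] at hn
          rw [List.map_cons, List.sum_cons, ih hn.2 fun y hy => hB y (List.mem_cons_of_mem _ hy)]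
          simp only [Function.comp_apply, dl_inr]
          by_cases hx : s = x
          · subst hx
            rw [if_neg hn.1, if_pos List.mem_cons_self, if_pos rfl, add_zero, mul_one, cast_of_odd hodd, one_mul]
          · have hτ : τ s ≠ τ x := fun e => hx (T.Einj s hs x (hB x List.mem_cons_self) e)
            rw [if_neg hτ, mul_zero, zero_add]
            by_cases hsB : s ∈ B
            · rw [if_pos hsB, if_pos (List.mem_cons_of_mem _ hsB)]
            · rw [if_neg hsB, if_neg]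
              intro h
              rcases List.mem_cons.1 h with h | h
              · exact hx h
              · exact hsB h
      rw [this E T.Enodup fun _ h => h, if_pos hs]
    rw [e2] at e1
    exact (mul_eq_zero.1 e1).resolve_left (hχ0 _ (hSlt s hs))
  · intro α hα
    obtain ⟨i, hi, hodd⟩ := T.odd α (List.mem_append_left _ hα)
    have e1 := h5 ⟨α, hAlt α hα⟩ ⟨i, hi⟩
    have e3 : ∀ p ∈ l, p.1 ≠ (⟨α, hAlt α hα⟩ : Fin D.nroots).val := fun p hp e => by
      have h6 := hlS p hp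
      rw [e] at h6
      exact not_mem_of_nodup T hα h6
    rw [if_pos hα, if_pos hα, sum_dl_zero l _ _ e3, add_zero] at e1
    have e2 : ((D.cartan i α : ℤ) : F) = 1 := cast_of_odd hodd
    simpa only [e2, one_mul] using e1

theorem prod_pow_dual (hD : InList D) (T : Dat2 D A E S' J Vl Ml τ wt inv bm) {c : ℕ → F}
    (hc0 : ∀ i < D.rank, c i ≠ 0)
    (hχ : ∀ α ∈ A, ((List.range D.rank).map fun i => c i ^ D.cartan i α).prod = 1) {i : ℕ} (hi : i < D.rank)
    (hiJ : i ∉ J) : c i = 1 := by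
  have h1 : ∀ B : List ℕ, (∀ α ∈ B, α ∈ A) →
      ((List.range D.rank).map fun j => c j ^ (B.map fun α => bm i α * D.cartan j α).sum).prod = 1 := by
    intro B
    induction B with
    | nil =>
      intro _
      apply List.prod_eq_one
      intro x hx
      obtain ⟨j, -, rfl⟩ := List.mem_map.1 hx
      simp
    | cons α B ih =>
      intro hB
      have ih := ih fun x hx => hB x (List.mem_cons_of_mem _ hx)
      have h2 := hχ α (hB α List.mem_cons_self)
      have h3 : ∀ l : List ℕ, (∀ j ∈ l, j < D.rank) →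
          (l.map fun j => c j ^ ((α :: B).map fun α => bm i α * D.cartan j α).sum).prod =
          (l.map fun j => c j ^ D.cartan j α).prod ^ (bm i α) *
          (l.map fun j => c j ^ (B.map fun α => bm i α * D.cartan j α).sum).prod := by
        intro l
        induction l with
        | nil => intro _; simp
        | cons j l ih =>
          intro hl
          have hj := hc0 j (hl j List.mem_cons_self)
          rw [List.map_cons, List.prod_cons, ih fun x hx => hl x (List.mem_cons_of_mem _ hx), List.map_cons (a := j),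
            List.prod_cons, List.map_cons (a := j), List.prod_cons, List.map_cons, List.sum_cons, zpow_add₀ hj, mul_zpow,
            mul_comm (bm i α), zpow_mul]
          ring
      rw [h3 _ fun j hj => List.mem_range.1 hj, h2, ih, one_zpow, mul_one]
  have h2 := h1 A fun _ h => h
  have h3 : ∀ l : List ℕ, l.Nodup → (∀ j ∈ l, j < D.rank) →
      (l.map fun j => c j ^ (A.map fun α => bm i α * D.cartan j α).sum).prod = if i ∈ l then c i else 1 := by
    intro l
    induction l with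
    | nil => intro _ _; simp
    | cons j l ih =>
      intro hn hl
      rw [List.nodup_cons] at hn
      rw [List.map_cons, List.prod_cons, ih hn.2 fun x hx => hl x (List.mem_cons_of_mem _ hx),
        T.dual i hi hiJ j (hl j List.mem_cons_self)]
      by_cases hij : i = j
      · subst hij
        rw [if_pos rfl, if_neg hn.1, if_pos List.mem_cons_self, zpow_one, mul_one]
      · rw [if_neg hij, zpow_zero, one_mul]
        by_cases hil : i ∈ l
        · rw [if_pos hil, if_pos (List.mem_cons_of_mem _ hil)]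
        · rw [if_neg hil, if_neg]
          intro h
          rcases List.mem_cons.1 h with h | h
          · exact hij h
          · exact hil h
  rw [h3 _ List.nodup_range fun j hj => List.mem_range.1 hj, if_pos (List.mem_range.2 hi)] at h2
  exact h2

/-- **`C_G(t) = ⟨X_r : r ∈ Ml⟩`.** -/
theorem cent (hD : InList D) (T : Dat2 D A E S' J Vl Ml τ wt inv bm) :
    D.group F ⊓ Subgroup.centralizer {tA F hD A} = XS F D Ml := by
  have G : Good D := Cfsg.Agent.ChevalleyStructure.RootComb.good_of_mem hD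
  apply le_antisymm
  · intro g hg
    obtain ⟨hgG, hgc⟩ := Subgroup.mem_inf.1 hg
    have hgt : g * tA F hD A = tA F hD A * g := (Subgroup.mem_centralizer_iff.1 hgc _ (Set.mem_singleton _)).symm
    obtain ⟨m, hm, h, hh, v, hv, rfl⟩ := PJ_decomp hD J (cent_le_PJ hD T hgG hgt)
    obtain ⟨k, hk, c, rfl⟩ := radical_decomp hD T hv
    obtain ⟨d, hd0, ehd, hχ⟩ := diag_data hD hh
    have hkM : h * k * h⁻¹ ∈ XS F D Ml :=
      XS_mono hD (fun s hs => (T.Vlt s hs).2) (diag_conj_XS hD (fun r hr => (T.Vlt r hr).1) hh hk)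
    have hmM : m ∈ XS F D Ml := LL_le hD T hm
    have hmk := XS_Ml_le_cent hD T (Subgroup.mul_mem _ hmM hkM)
    have e1 : m * h * (k * PA hD E c) = (m * (h * k * h⁻¹)) * (h * PA hD E c) := by group
    rw [e1] at hgt ⊢
    have h1 : h * PA hD E c * tA F hD A = tA F hD A * (h * PA hD E c) := by
      have h2 : (m * (h * k * h⁻¹)) * (h * PA hD E c * tA F hD A) =
          (m * (h * k * h⁻¹)) * (tA F hD A * (h * PA hD E c)) := by
        calc (m * (h * k * h⁻¹)) * (h * PA hD E c * tA F hD A) =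
            (m * (h * k * h⁻¹)) * (h * PA hD E c) * tA F hD A := by group
          _ = tA F hD A * ((m * (h * k * h⁻¹)) * (h * PA hD E c)) := hgt
          _ = tA F hD A * (m * (h * k * h⁻¹)) * (h * PA hD E c) := by group
          _ = (m * (h * k * h⁻¹)) * tA F hD A * (h * PA hD E c) := by rw [hmk]
          _ = _ := by group
      exact mul_left_cancel h2
    have hχ0 : ∀ s < D.nroots, ((List.range D.rank).map fun i => d i ^ D.cartan i s).prod ≠ 0 := by
      intro s _
      apply List.prod_ne_zero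
      intro h0
      rw [List.mem_map] at h0
      obtain ⟨i, hi, e0⟩ := h0
      exact zpow_ne_zero _ (hd0 i (List.mem_range.1 hi)) e0
    obtain ⟨h3, h4⟩ := diag_part hD T (χ := fun s => ((List.range D.rank).map fun i => d i ^ D.cartan i s).prod)
      hχ0 hχ c h1
    have hE : PA hD E c = 1 := by
      apply List.prod_eq_one
      intro x hx
      obtain ⟨r, hr, rfl⟩ := List.mem_map.1 hx
      show xG hD r (c r) = 1
      rw [h3 r hr, xG_zero]
    rw [hE, mul_one]
    refine Subgroup.mul_mem _ (Subgroup.mul_mem _ hmM hkM) ?_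
    rw [ehd]
    have h5 : ∀ l : List ℕ, (∀ i ∈ l, i < D.rank) →
        wordG hD (l.flatMap fun i => D.hWord (D.simple i) (d i)) ∈ XS F D Ml := by
      intro l
      induction l with
      | nil => intro _; rw [List.flatMap_nil, wordG_nil]; exact Subgroup.one_mem _
      | cons i l ih =>
        intro hl
        rw [List.flatMap_cons, wordG_append]
        refine Subgroup.mul_mem _ ?_ (ih fun x hx => hl x (List.mem_cons_of_mem _ hx))
        have hi := hl i List.mem_cons_self
        show hG hD (D.simple i) (d i) ∈ XS F D Ml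
        by_cases hiJ : i ∈ J
        · obtain ⟨h6, h7⟩ := T.Js i hiJ
          apply mem_of_xG_mem
          intro p hp
          unfold ChevalleyDatum.hWord ChevalleyDatum.nWord at hp
          simp only [List.cons_append, List.nil_append, List.mem_cons, List.not_mem_nil, or_false] at hp
          rcases hp with rfl | rfl | rfl | rfl | rfl | rfl
          all_goals first | exact xG_mem_XS hD h6 _ | exact xG_mem_XS hD h7 _
        · rw [prod_pow_dual hD T hd0 h4 hi hiJ, Cfsg.Agent.ChevalleyStructure.NConj.hG_one]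
          exact Subgroup.one_mem _
    exact h5 _ fun i hi => List.mem_range.1 hi
  · intro y hy
    refine Subgroup.mem_inf.2 ⟨XS_le_group hD (fun r hr => (T.Mlt r hr).1) hy, ?_⟩
    rw [Subgroup.mem_centralizer_iff]
    intro x hx
    rw [Set.mem_singleton_iff.1 hx]
    exact (XS_Ml_le_cent hD T hy).symm

end Cfsg.Agent.H82.Cent2
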